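import Mathlib.AlgebraicGeometry.Morphisms.UniversallyInjective
import Mathlib.AlgebraicGeometry.Morphisms.Finite
import Mathlib.AlgebraicGeometry.PullbackCarrier
import Mathlib.CategoryTheory.Monoidal.Cartesian.Grp
import Mathlib.CategoryTheory.Monoidal.Cartesian.Over
import Groth.Prelude.Def_AlgGrp

/-!
# The kernel pair of a homomorphism is the product with its kernel
-/

universe u

open CategoryTheory Limits AlgebraicGeometry
open MonoidalCategory CartesianMonoidalCategory MonObj

namespace GrothLib.Rigidity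

variable {S : Scheme.{u}}

theorem isPullback_kernelPair {G H N : Over S} [GrpObj G] [GrpObj H] (f : G ⟶ H) [IsMonHom f]
    (i : N ⟶ G) (hi : AlgGrp.IsKernel i f) :
    IsPullback ((fst N G ≫ i) * snd N G) (snd N G) f f := by
  have : Mono η[H] := mono_of_mono_fac (show η[H] ≫ toUnit H = 𝟙 _ from toUnit_unique _ _)
  have : Mono i := PullbackCone.mono_fst_of_is_pullback_of_mono hi.isLimit
  have hker : ∀ {T : Over S} (n : T ⟶ N), (n ≫ i) ≫ f = 1 := fun {T} n => by
    rw [Category.assoc, hi.w, ← Category.assoc, Hom.one_def]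
    congr 1
    exact toUnit_unique _ _
  have w : ((fst N G ≫ i) * snd N G) ≫ f = snd N G ≫ f := by
    rw [MonObj.mul_comp, hker, _root_.one_mul]
  refine ⟨⟨w⟩, ⟨PullbackCone.IsLimit.mk w (fun s => lift
    (hi.lift (s.fst * s.snd⁻¹) (toUnit _) (by
      rw [MonObj.mul_comp, GrpObj.inv_comp, s.condition, _root_.mul_inv_cancel, Hom.one_def])) s.snd)
    (fun s => ?_) (fun s => lift_snd _ _) (fun s m h₁ h₂ => ?_)⟩⟩
  · rw [MonObj.comp_mul, lift_fst_assoc, lift_snd, hi.lift_fst, inv_mul_cancel_right]
  · apply CartesianMonoidalCategory.hom_ext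
    · rw [lift_fst, ← cancel_mono i, hi.lift_fst, Category.assoc]
      rw [MonObj.comp_mul, h₂] at h₁
      rw [← h₁, mul_inv_cancel_right]
    · rw [lift_snd, h₂]

theorem universallyInjective_of_injective_snd {X Y : Scheme.{u}} (f : X ⟶ Y)
    (h : Function.Injective (pullback.snd f f)) : UniversallyInjective f := by
  rw [UniversallyInjective.iff_diagonal]
  refine ⟨fun z => ⟨pullback.snd f f z, h ?_⟩⟩
  rw [← Scheme.Hom.comp_apply (pullback.diagonal f), pullback.diagonal_snd]
  rfl

theorem universallyInjective_of_subsingleton {X Y : Scheme.{u}} (p : X ⟶ Y) (e : Y ⟶ X)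
    (he : e ≫ p = 𝟙 Y) [Subsingleton X] : UniversallyInjective p := by
  rw [UniversallyInjective.iff_diagonal]
  haveI : Surjective e := ⟨fun x => ⟨p x, Subsingleton.elim _ _⟩⟩
  let m := pullback.map (𝟙 Y) p p p e (𝟙 X) (𝟙 Y) (by simp [he]) (by simp)
  have hm : Function.Surjective m := fun z => by
    have : z ∈ Set.range m := by
      rw [Scheme.Pullback.range_map]
      exact ⟨⟨p (pullback.fst p p z), Subsingleton.elim _ _⟩, ⟨pullback.snd p p z, rfl⟩⟩
    exact this
  have hs : Subsingleton ↥(pullback (𝟙 Y) p) := (pullback.snd (𝟙 Y) p).homeomorph.injective.subsingleton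
  haveI : Subsingleton ↥(pullback p p) := hm.subsingleton
  exact ⟨fun z => ⟨pullback.fst p p z, Subsingleton.elim _ _⟩⟩

end GrothLib.Rigidity
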