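import Mathlib.AlgebraicGeometry.AlgClosed.Basic
import Mathlib.AlgebraicGeometry.Morphisms.Separated
import Mathlib.CategoryTheory.Monoidal.Cartesian.Over
import Mathlib.CategoryTheory.Monoidal.Cartesian.Grp

/-!
# Morphisms of varieties over an algebraically closed field are determined by rational points
-/

universe u

open CategoryTheory Limits AlgebraicGeometry
open MonoidalCategory CartesianMonoidalCategory MonObj

namespace GrothLib.Rigidity

/-- A rational point through a closed point. -/
theorem exists_point_over {k : Type u} [Field k] [IsAlgClosed k] (X : Over (Spec (CommRingCat.of k)))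
    [LocallyOfFiniteType X.hom] (x : X.left) (hx : IsClosed ({x} : Set X.left)) :
    ∃ p : 𝟙_ (Over (Spec (CommRingCat.of k))) ⟶ X, p.left (IsLocalRing.closedPoint k) = x :=
  ⟨Over.homMk (pointOfClosedPoint X.hom x hx) (pointOfClosedPoint_comp X.hom x hx),
    pointOfClosedPoint_apply X.hom x hx _⟩

theorem ext_of_points {k : Type u} [Field k] [IsAlgClosed k] {X Y : Over (Spec (CommRingCat.of k))}
    [LocallyOfFiniteType X.hom] [IsReduced X.left] [IsSeparated Y.hom] (f g : X ⟶ Y)
    (h : ∀ p : 𝟙_ (Over (Spec (CommRingCat.of k))) ⟶ X, p ≫ f = p ≫ g) : f = g := by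
  have : JacobsonSpace X.left := LocallyOfFiniteType.jacobsonSpace (Y := Spec _) X.hom
  refine Over.OverMorphism.ext (ext_of_fromSpecResidueField_eq f.left g.left Y.hom (closedPoints X.left)
    (dense_iff_closure_eq.mpr closure_closedPoints) (fun x hx => ?_) ((Over.w f).trans (Over.w g).symm))
  have hp := congrArg Over.Hom.left (h (Over.homMk (pointOfClosedPoint X.hom x hx) (pointOfClosedPoint_comp X.hom x hx)))
  simp only [Over.comp_left, Over.homMk_left, pointOfClosedPoint, Category.assoc] at hp
  exact (cancel_epi (Spec.map (residueFieldIsoBase X.hom x hx).hom)).mp hp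

end GrothLib.Rigidity
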