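import Groth.Agent.Lib.GrpSchField.Components
import Mathlib.AlgebraicGeometry.Geometrically.Connected
import Mathlib.AlgebraicGeometry.Geometrically.Integral
import Mathlib.AlgebraicGeometry.Morphisms.Smooth
import Mathlib.RingTheory.RingHom.StandardSmooth
import Mathlib.RingTheory.Unramified.Field
import Mathlib.RingTheory.Smooth.Flat

/-!
# Smooth connected group schemes over a field are geometrically integral
-/

universe u

open CategoryTheory Limits AlgebraicGeometry
open scoped TensorProduct CategoryTheory.Obj

namespace GrothLib.Rigidity

theorem isReduced_of_isStandardSmooth {R S : Type u} [CommRing R] [CommRing S] {f : R →+* S} (hR : IsField R)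
    (hf : f.IsStandardSmooth) : _root_.IsReduced S := by
  obtain ⟨n, g, -, hg⟩ := hf.exists_etale_mvPolynomial
  let := hR.toField
  algebraize [g]
  have : Algebra.Etale (MvPolynomial (Fin n) R) S := hg
  have : Module.Flat (MvPolynomial (Fin n) R) S := inferInstance
  let F := FractionRing (MvPolynomial (Fin n) R)
  have : _root_.IsReduced (F ⊗[MvPolynomial (Fin n) R] S) :=
    Algebra.FormallyUnramified.isReduced_of_field F _
  exact isReduced_of_injective
    (Algebra.TensorProduct.includeRight : S →ₐ[MvPolynomial (Fin n) R] F ⊗[MvPolynomial (Fin n) R] S)
    (Algebra.TensorProduct.includeRight_injective (IsFractionRing.injective _ F))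

/-- A scheme smooth over a field is reduced. -/
theorem isReduced_of_smooth {K : Type u} [Field K] {X : Scheme.{u}} (f : X ⟶ Spec (CommRingCat.of K))
    [Smooth f] : IsReduced X := by
  choose U hU V hV hx e he using Smooth.exists_isStandardSmooth f
  have hred : ∀ x, IsReduced (V x : Scheme) := fun x => by
    have htop : U x = ⊤ := by
      ext s
      simp only [TopologicalSpace.Opens.coe_top, Set.mem_univ, iff_true]
      rw [Subsingleton.elim (α := ↥(Spec (CommRingCat.of K))) s (f x)]
      exact e x (hx x)
    have hfield : IsField Γ(Spec (CommRingCat.of K), U x) := by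
      rw [htop]
      exact ((Scheme.ΓSpecIso (CommRingCat.of K)).commRingCatIsoToRingEquiv.toMulEquiv).isField (Field.toIsField K)
    have : _root_.IsReduced Γ(X, V x) := isReduced_of_isStandardSmooth hfield (he x)
    have : IsReduced (Spec Γ(X, V x)) := (affine_isReduced_iff _).2 this
    exact isReduced_of_isOpenImmersion (hV x).isoSpec.hom
  have hcov : TopologicalSpace.IsOpenCover (fun x : X => V x) :=
    TopologicalSpace.IsOpenCover.mk (top_le_iff.1 fun x _ => TopologicalSpace.Opens.mem_iSup.2 ⟨x, hx x⟩)
  exact (AlgebraicGeometry.IsReduced.iff_of_openCover (X := X) (X.openCoverOfIsOpenCover (fun x => V x) hcov)).2 hred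

variable {K : Type u} [Field K]

theorem geometricallyReduced_of_smooth {X : Scheme.{u}} (f : X ⟶ Spec (CommRingCat.of K)) [Smooth f] :
    GeometricallyReduced f :=
  ⟨fun _ _ _ _ _ snd h =>
    have : Smooth snd := MorphismProperty.of_isPullback h ‹_›
    isReduced_of_smooth snd⟩

/-- A connected group scheme locally of finite type over a field is irreducible. -/
theorem irreducibleSpace_of_connected (G : Over (Spec (CommRingCat.of K))) [GrpObj G]
    [LocallyOfFiniteType G.hom] [ConnectedSpace G.left] : IrreducibleSpace G.left := by
  obtain ⟨x⟩ := (inferInstance : Nonempty G.left)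
  have h := GrpSchField.connectedComponent_eq_irreducibleComponent G x
  rw [PreconnectedSpace.connectedComponent_eq_univ x] at h
  refine (irreducibleSpace_def _).2 ?_
  rw [Set.top_eq_univ, h]
  exact isIrreducible_irreducibleComponent

/-- A smooth geometrically connected group scheme over a field is geometrically integral. -/
theorem geometricallyIntegral_of_smooth (G : Over (Spec (CommRingCat.of K))) [GrpObj G] [Smooth G.hom]
    [GeometricallyConnected G.hom] : GeometricallyIntegral G.hom := by
  have : GeometricallyReduced G.hom := geometricallyReduced_of_smooth _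
  have : GeometricallyIrreducible G.hom := by
    refine ⟨fun L _ y Z fst snd h => ?_⟩
    let P := Over.pullback y
    have : Smooth (P.obj G).hom := by dsimp [P]; infer_instance
    have : GeometricallyConnected (P.obj G).hom := by dsimp [P]; infer_instance
    have : ConnectedSpace (P.obj G).left :=
      GeometricallyConnected.connectedSpace_of_subsingleton (f := (P.obj G).hom)
    have : IrreducibleSpace (P.obj G).left := irreducibleSpace_of_connected _
    have : IrreducibleSpace ↥(pullback G.hom y) := ‹IrreducibleSpace (P.obj G).left›
    exact Function.Surjective.irreducibleSpace (f := h.isoPullback.inv) h.isoPullback.inv.continuous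
      h.isoPullback.inv.surjective
  exact GeometricallyIntegral.of_geometricallyReduced_of_geometricallyIrreducible G.hom

end GrothLib.Rigidity
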