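import Groth.Agent.Lib.Rigidity.AbImage
import Groth.Agent.Lib.Rigidity.PointsExt
import Groth.Agent.Lib.Dim.QuasiFinite
import Groth.Agent.Lib.EssFree.Subgroup
import Groth.Agent.Lib.GrpSchField.ReducedProd
import Groth.Agent.Lib.GrpSchField.Components
import Mathlib

/-!
# The subgroup generated by an irreducible closed set through the identity

Over an algebraically closed field, in a proper group scheme: the subvariety is contained in an
integral closed subgroup all of whose points lie in any kernel containing the points of the subvariety.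
-/

universe u v

open CategoryTheory CategoryTheory.Limits AlgebraicGeometry TopologicalSpace
open MonoidalCategory CartesianMonoidalCategory MonObj

namespace GrothLib.Rigidity

variable {k : Type u} [Field k] [IsAlgClosed k]

theorem exists_subgroup_of_irreducible (A : Over (Spec (CommRingCat.of k))) [GrpObj A] [IsProper A.hom]
    [IsIntegral A.left] {H : Type v} [Group H] (f : (𝟙_ (Over (Spec (CommRingCat.of k))) ⟶ A) →* H)
    (V : Set A.left) (hVcl : IsClosed V) (hVirr : IsIrreducible V) (hV1 : Set.range (η[A]).left ⊆ V)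
    (hVker : ∀ a : 𝟙_ (Over (Spec (CommRingCat.of k))) ⟶ A, Set.range a.left ⊆ V → f a = 1) :
    ∃ (B : Over (Spec (CommRingCat.of k))) (_ : GrpObj B) (incl : B ⟶ A), IsMonHom incl ∧
      IsClosedImmersion incl.left ∧ IsIntegral B.left ∧ V ⊆ Set.range incl.left ∧
      ∀ b : 𝟙_ (Over (Spec (CommRingCat.of k))) ⟶ B, f (b ≫ incl) = 1 := by
  let S := Spec (CommRingCat.of k)
  let Good : Set (IrreducibleCloseds A.left) := {Z | V ⊆ (Z : Set A.left) ∧
    ∀ a : 𝟙_ (Over S) ⟶ A, Set.range a.left ⊆ (Z : Set A.left) → f a = 1}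
  obtain ⟨m, hm, -⟩ := GrothLib.Dim.dim_closure_range_eq (𝟙 A.left) A.hom
  haveI : FiniteDimensionalOrder (IrreducibleCloseds A.left) := by
    rw [Order.finiteDimensionalOrder_iff_krullDim_ne_bot_and_top]
    rw [topologicalKrullDim] at hm
    rw [hm]
    exact ⟨WithBot.natCast_ne_bot m, fun h => ENat.coe_ne_top m (WithBot.coe_injective h)⟩
  obtain ⟨Z, ⟨hVZ, hker⟩, hmax⟩ := (SetRel.IsWellFounded.inv_of_finiteDimensional
    (r := {(a, b) : IrreducibleCloseds A.left × IrreducibleCloseds A.left | a < b})).has_min Good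
    ⟨⟨V, hVirr, hVcl⟩, subset_rfl, hVker⟩
  let C : Closeds A.left := ⟨Z, Z.isClosed⟩
  let I := Scheme.IdealSheafData.vanishingIdeal C
  have hr : Set.range I.subschemeι = (Z : Set A.left) := GrothLib.RedSub.range_subschemeι_vanishingIdeal C
  haveI : IsReduced I.subscheme := GrothLib.RedSub.isReduced_subscheme_vanishingIdeal C
  haveI : IrreducibleSpace I.subscheme := by
    have hirr : IsIrreducible (I.subschemeι '' Set.univ) := by rw [Set.image_univ, hr]; exact Z.isIrreducible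
    refine (irreducibleSpace_def _).mpr ⟨?_, ?_⟩
    · obtain ⟨_, x, -, -⟩ := hirr.nonempty
      exact ⟨x, trivial⟩
    · rintro U₁ U₂ hU₁ hU₂ ⟨x₁, -, hx₁⟩ ⟨x₂, -, hx₂⟩
      obtain ⟨W₁, hW₁, rfl⟩ := I.subschemeι.isClosedEmbedding.isInducing.isOpen_iff.mp hU₁
      obtain ⟨W₂, hW₂, rfl⟩ := I.subschemeι.isClosedEmbedding.isInducing.isOpen_iff.mp hU₂
      obtain ⟨_, ⟨x, -, rfl⟩, h1, h2⟩ := hirr.isPreirreducible W₁ W₂ hW₁ hW₂ ⟨_, ⟨x₁, trivial, rfl⟩, hx₁⟩
        ⟨_, ⟨x₂, trivial, rfl⟩, hx₂⟩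
      exact ⟨x, trivial, h1, h2⟩
  haveI : IsIntegral I.subscheme := isIntegral_of_irreducibleSpace_of_isReduced _
  let B : Over S := Over.mk (I.subschemeι ≫ A.hom)
  let i : B ⟶ A := Over.homMk I.subschemeι rfl
  haveI : IsClosedImmersion i.left := inferInstanceAs (IsClosedImmersion I.subschemeι)
  haveI : IsIntegral B.left := inferInstanceAs (IsIntegral I.subscheme)
  haveI : IsReduced B.left := inferInstance
  haveI : IsProper B.hom := inferInstanceAs (IsProper (I.subschemeι ≫ A.hom))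
  haveI : IsReduced (pullback B.hom B.hom) := GrothLib.GrpSchField.isReduced_pullback B.hom B.hom
  haveI : IrreducibleSpace ↥(pullback B.hom B.hom) := GrothLib.GrpSchField.irreducibleSpace_pullback B.hom B.hom
  haveI : IsIntegral (B ⊗ B).left := isIntegral_of_irreducibleSpace_of_isReduced (pullback B.hom B.hom)
  have hlift : ∀ {T : Over S} [IsReduced T.left] (c : T ⟶ A),
      Set.range c.left ⊆ (Z : Set A.left) → ∃ d : T ⟶ B, d ≫ i = c := fun {T} _ c hc => by
    obtain ⟨g, hg⟩ := GrothLib.RedSub.exists_lift c.left I.subschemeι (by rw [hr]; exact hc)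
    exact ⟨Over.homMk g (by show g ≫ I.subschemeι ≫ A.hom = T.hom; rw [reassoc_of% hg, Over.w]),
      Over.OverMorphism.ext hg⟩
  let δ : B ⊗ B ⟶ A := (fst B B ≫ i) * (snd B B ≫ i)⁻¹
  haveI : IsProper (B ⊗ B).hom := inferInstanceAs (IsProper (pullback.fst B.hom B.hom ≫ B.hom))
  haveI : IsProper (δ.left ≫ A.hom) := by rw [Over.w]; infer_instance
  haveI : IsProper δ.left := IsProper.of_comp δ.left A.hom
  have hbi : ∀ b : 𝟙_ (Over S) ⟶ B, Set.range (b ≫ i).left ⊆ (Z : Set A.left) := fun b => by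
    rw [← hr]
    rintro _ ⟨x, rfl⟩
    exact ⟨b.left x, rfl⟩
  haveI : IsReduced (𝟙_ (Over S)).left := inferInstanceAs (IsReduced S)
  obtain ⟨e, he⟩ := hlift (η[A] : 𝟙_ (Over S) ⟶ A) (hV1.trans hVZ)
  let W : IrreducibleCloseds A.left := ⟨Set.range δ.left,
    by rw [← Set.image_univ]; exact (IrreducibleSpace.isIrreducible_univ _).image _ δ.left.continuous.continuousOn,
    δ.left.isClosedMap.isClosed_range⟩
  have hZW : (Z : Set A.left) ⊆ Set.range δ.left := by
    let l : B ⟶ B ⊗ B := lift (𝟙 B) (toUnit B ≫ e)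
    have hl : l ≫ δ = i := by
      simp only [δ, l, MonObj.comp_mul, GrpObj.comp_inv, lift_fst_assoc, lift_snd_assoc, Category.id_comp,
        Category.assoc, he, MonObj.one_eq_one, MonObj.comp_one, inv_one, _root_.mul_one]
    rw [← hr]
    rintro _ ⟨x, rfl⟩
    exact ⟨l.left x, congrArg (fun q : B ⟶ A => q.left x) hl⟩
  have hWgood : W ∈ Good := by
    refine ⟨hVZ.trans hZW, fun a ha => ?_⟩
    haveI : JacobsonSpace (B ⊗ B).left := LocallyOfFiniteType.jacobsonSpace (B ⊗ B).hom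
    have hac : IsClosed ({a.left (IsLocalRing.closedPoint k)} : Set A.left) :=
      ((pointEquivClosedPoint A.hom) ⟨a.left, Over.w a⟩).2
    have ha' : (δ.left ⁻¹' {a.left (IsLocalRing.closedPoint k)}).Nonempty := by
      obtain ⟨x, hx⟩ := ha ⟨IsLocalRing.closedPoint k, rfl⟩
      exact ⟨x, hx⟩
    obtain ⟨x, hx, hxc⟩ := nonempty_inter_closedPoints ha' (hac.preimage δ.left.continuous).isLocallyClosed
    obtain ⟨p, hp⟩ := exists_point_over (B ⊗ B) x (mem_closedPoints_iff.mp hxc)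
    have hpa : a = p ≫ δ := Over.OverMorphism.ext (ext_of_apply_closedPoint_eq A.hom (Over.w a) (Over.w (p ≫ δ)) (by
      rw [Over.comp_left, Scheme.Hom.comp_apply, hp]
      exact hx.symm))
    rw [hpa, show p ≫ δ = ((p ≫ fst B B) ≫ i) * ((p ≫ snd B B) ≫ i)⁻¹ by
      simp only [δ, MonObj.comp_mul, GrpObj.comp_inv, Category.assoc], map_mul, map_inv,
      hker _ (hbi _), hker _ (hbi _), inv_one, _root_.mul_one]
  have hδ : Set.range δ.left ⊆ (Z : Set A.left) := by
    by_contra hne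
    refine hmax W hWgood ?_
    show Z < W
    exact lt_of_le_of_ne hZW fun h => hne (by rw [h]; exact subset_rfl)
  obtain ⟨d, hd⟩ := hlift δ hδ
  haveI : Mono i := by
    haveI : Mono ((Over.forget _).map i) := inferInstanceAs (Mono I.subschemeι)
    exact (Over.forget _).mono_of_mono_map inferInstance
  have hdiv : ∀ (T : Over S) (a b : T ⟶ B), ∃ z : T ⟶ B, z ≫ i = (a ≫ i) * (b ≫ i)⁻¹ := fun T a b =>
    ⟨lift a b ≫ d, by simp only [Category.assoc, hd, δ, MonObj.comp_mul, GrpObj.comp_inv, lift_fst_assoc, lift_snd_assoc]⟩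
  have hone : ∀ T : Over S, ∃ z : T ⟶ B, z ≫ i = 1 := fun T =>
    ⟨toUnit T ≫ e, by rw [Category.assoc, he, MonObj.one_eq_one, MonObj.comp_one]⟩
  have hinv : ∀ (T : Over S) (a : T ⟶ B), ∃ z : T ⟶ B, z ≫ i = (a ≫ i)⁻¹ := fun T a => by
    obtain ⟨o, ho⟩ := hone T
    obtain ⟨z, hz⟩ := hdiv T o a
    exact ⟨z, by rw [hz, ho, _root_.one_mul]⟩
  obtain ⟨inst, hi⟩ := GrothLib.EssFree.exists_grpObj_of_mono i hone (fun T a b => by
    obtain ⟨c, hc⟩ := hinv T b
    obtain ⟨z, hz⟩ := hdiv T a c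
    exact ⟨z, by rw [hz, hc, inv_inv]⟩) hinv
  exact ⟨B, inst, i, hi, inferInstance, inferInstance, hVZ.trans hr.ge, fun b => hker _ (hbi b)⟩

end GrothLib.Rigidity
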