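import Groth.Agent.S7799
import Groth.Agent.Lib.Dim.Morphism
import Groth.Agent.Lib.Flatness.Fibre
import Mathlib.AlgebraicGeometry.ZariskisMainTheorem
import Mathlib.AlgebraicGeometry.Morphisms.Flat
import Mathlib.RingTheory.Localization.Free
import Mathlib.Algebra.Module.LocalizedModule.IsLocalization

/-!
# Surjective homomorphisms between group varieties of equal dimension
-/

universe u

open CategoryTheory Limits AlgebraicGeometry TopologicalSpace
open MonoidalCategory CartesianMonoidalCategory MonObj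
open scoped CategoryTheory.Obj

namespace GrothLib.Rigidity

/-- A finite morphism to a reduced irreducible noetherian scheme is flat over a nonempty open. -/
theorem exists_flat_over_open {X Y : Scheme.{u}} [IsIntegral Y] [IsLocallyNoetherian Y] (f : X ⟶ Y) [IsFinite f] :
    ∃ W : Y.Opens, Nonempty W ∧ Flat ((f ⁻¹ᵁ W).ι ≫ f) := by
  obtain ⟨_, ⟨V, hV, rfl⟩, hyV, -⟩ :=
    Y.isBasis_affineOpens.exists_subset_of_mem_open (Set.mem_univ (genericPoint Y)) isOpen_univ
  have : Nonempty V := ⟨⟨_, hyV⟩⟩
  have hU : IsAffineOpen (f ⁻¹ᵁ V) := hV.preimage f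
  let g := f.app V
  algebraize [g.hom]
  have hfin : Module.Finite Γ(Y, V) Γ(X, f ⁻¹ᵁ V) := IsFinite.finite_app (f := f) V hV
  have : IsNoetherianRing Γ(Y, V) := IsLocallyNoetherian.component_noetherian ⟨V, hV⟩
  have : Module.FinitePresentation Γ(Y, V) Γ(X, f ⁻¹ᵁ V) := Module.finitePresentation_of_finite _ _
  obtain ⟨r, hr, hfree, -⟩ := Module.FinitePresentation.exists_free_localizedModule_powers
    (nonZeroDivisors Γ(Y, V)) (LocalizedModule.mkLinearMap (nonZeroDivisors Γ(Y, V)) Γ(X, f ⁻¹ᵁ V))
    (FractionRing Γ(Y, V))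
  refine ⟨Y.basicOpen r, ?_, ?_⟩
  · refine ⟨⟨genericPoint Y, ?_⟩⟩
    refine ((genericPoint_spec Y).mem_open_set_iff (Y.basicOpen r).2).2 ?_
    rw [Set.univ_inter]
    refine Set.nonempty_iff_ne_empty.2 fun h0 => nonZeroDivisors.ne_zero hr ?_
    exact (basicOpen_eq_bot_iff r).1 (TopologicalSpace.Opens.ext h0)
  have hW : IsAffineOpen (f ⁻¹ᵁ Y.basicOpen r) := (hV.basicOpen r).preimage f
  have e : f ⁻¹ᵁ Y.basicOpen r ≤ f ⁻¹ᵁ V := f.preimage_mono (Y.basicOpen_le r)
  let g' := f.appLE V (f ⁻¹ᵁ Y.basicOpen r) e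
  have hg' : g'.hom.Flat := by
    let C := Γ(X, X.basicOpen (g.hom r))
    let algC : Algebra Γ(Y, V) C := ((algebraMap Γ(X, f ⁻¹ᵁ V) C).comp g.hom).toAlgebra
    have : IsScalarTower Γ(Y, V) Γ(X, f ⁻¹ᵁ V) C := IsScalarTower.of_algebraMap_eq' rfl
    have := hU.isLocalization_basicOpen (g.hom r)
    have hloc : IsLocalization (Algebra.algebraMapSubmonoid Γ(X, f ⁻¹ᵁ V) (Submonoid.powers r)) C := by
      have hp : Algebra.algebraMapSubmonoid Γ(X, f ⁻¹ᵁ V) (Submonoid.powers r) = Submonoid.powers (g.hom r) :=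
        Submonoid.map_powers _ r
      rw [hp]; infer_instance
    have hflatC : Module.Flat Γ(Y, V) C := by
      have : IsLocalizedModule (Submonoid.powers r)
          (IsScalarTower.toAlgHom Γ(Y, V) Γ(X, f ⁻¹ᵁ V) C).toLinearMap := inferInstance
      have : Module.Flat (Localization (Submonoid.powers r)) (LocalizedModule.Away r Γ(X, f ⁻¹ᵁ V)) := inferInstance
      have : Module.Flat Γ(Y, V) (Localization (Submonoid.powers r)) := IsLocalization.flat _ (Submonoid.powers r)
      have : Module.Flat Γ(Y, V) (LocalizedModule.Away r Γ(X, f ⁻¹ᵁ V)) :=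
        Module.Flat.trans Γ(Y, V) (Localization (Submonoid.powers r)) _
      exact Module.Flat.of_linearEquiv
        (IsLocalizedModule.iso (Submonoid.powers r) (IsScalarTower.toAlgHom Γ(Y, V) Γ(X, f ⁻¹ᵁ V) C).toLinearMap).symm
    have heq : f ⁻¹ᵁ Y.basicOpen r = X.basicOpen (g.hom r) := Scheme.preimage_basicOpen f r
    have hflat' : (f.appLE V (X.basicOpen (g.hom r)) (X.basicOpen_le _)).hom.Flat := by
      rw [Scheme.Hom.appLE]
      exact hflatC
    have : ∀ (W : X.Opens) (hw : W = X.basicOpen (g.hom r)) (e : W ≤ f ⁻¹ᵁ V), (f.appLE V W e).hom.Flat := by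
      rintro W rfl e; exact hflat'
    exact this _ heq e
  have hflat : Flat (hW.fromSpec ≫ f) := by
    rw [← hV.SpecMap_appLE_fromSpec f hW e]
    have : Flat (Spec.map g') := Flat.SpecMap_iff.2 hg'
    infer_instance
  rw [← hW.isoSpec_hom_fromSpec, Category.assoc]
  infer_instance

variable {K : Type u} [Field K]

/-- A finite surjective homomorphism of group varieties over an algebraically closed field is flat. -/
theorem flat_of_isFinite_isAlgClosed [IsAlgClosed K] (X Y : Over (Spec (CommRingCat.of K))) [GrpObj X] [GrpObj Y]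
    [LocallyOfFiniteType X.hom] [LocallyOfFiniteType Y.hom] [IsIntegral Y.left] (f : X ⟶ Y) [IsMonHom f]
    [IsFinite f.left] [Surjective f.left] : Flat f.left := by
  have : IsLocallyNoetherian Y.left := LocallyOfFiniteType.isLocallyNoetherian Y.hom
  have : JacobsonSpace X.left := LocallyOfFiniteType.jacobsonSpace (Y := Spec _) X.hom
  have : JacobsonSpace Y.left := LocallyOfFiniteType.jacobsonSpace (Y := Spec _) Y.hom
  obtain ⟨W, hW, hflat⟩ := exists_flat_over_open f.left
  let pt : ↥(Spec (CommRingCat.of K)) := IsLocalRing.closedPoint K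
  let tX : (𝟙_ (Over (Spec (CommRingCat.of K))) ⟶ X) → (X ⟶ X) := fun d => lift (toUnit X ≫ d) (𝟙 X) ≫ μ[X]
  let tY : (𝟙_ (Over (Spec (CommRingCat.of K))) ⟶ Y) → (Y ⟶ Y) := fun d => lift (toUnit Y ≫ d) (𝟙 Y) ≫ μ[Y]
  have hcomm : ∀ a, tX a ≫ f = f ≫ tY (a ≫ f) := fun a => by
    simp only [tX, tY]
    rw [Category.assoc, IsMonHom.mul_hom, lift_map_assoc, comp_lift_assoc, Category.id_comp, Category.comp_id,
      comp_toUnit_assoc, Category.assoc]
  have htx : ∀ d p, p ≫ tX d = d * p := fun d p => by
    simp only [tX, comp_lift_assoc, Category.comp_id]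
    rw [← Category.assoc p (toUnit X) d, Subsingleton.elim (p ≫ toUnit X) (𝟙 _), Category.id_comp]
    rfl
  have hti : ∀ {A : Over (Spec (CommRingCat.of K))} [GrpObj A] (d : 𝟙_ (Over (Spec (CommRingCat.of K))) ⟶ A),
      IsIso (lift (toUnit A ≫ d) (𝟙 A) ≫ μ[A]).left := fun {A} _ d => by
    have hone : ∀ d, (lift (toUnit A ≫ d) (𝟙 A) ≫ μ[A]) ≫ (lift (toUnit A ≫ d⁻¹) (𝟙 A) ≫ μ[A]) = 𝟙 A := fun d => by
      change ((toUnit A ≫ d) * 𝟙 A) ≫ ((toUnit A ≫ d⁻¹) * 𝟙 A) = 𝟙 A
      rw [MonObj.comp_mul, Category.comp_id, comp_toUnit_assoc, GrpObj.comp_inv, ← _root_.mul_assoc,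
        _root_.inv_mul_cancel, _root_.one_mul]
    have : IsIso (lift (toUnit A ≫ d) (𝟙 A) ≫ μ[A]) :=
      ⟨_, hone d, by simpa [_root_.inv_inv] using hone d⁻¹⟩
    exact inferInstanceAs (IsIso ((Over.forget _).map (lift (toUnit A ≫ d) (𝟙 A) ≫ μ[A])))
  -- the translates of `W` cover `Y`
  let U : (𝟙_ (Over (Spec (CommRingCat.of K))) ⟶ X) → X.left.Opens :=
    fun a => (tX a).left ⁻¹ᵁ (f.left ⁻¹ᵁ W)
  have hcov : ∀ x : X.left, ∃ a, x ∈ U a := by
    by_contra hne
    push Not at hne
    obtain ⟨x, hx⟩ := hne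
    have hcl : IsClosed (⋂ a, ((U a : Set X.left))ᶜ) := isClosed_iInter fun a => (U a).2.isClosed_compl
    obtain ⟨c, hc, hcc⟩ := nonempty_inter_closedPoints ⟨x, Set.mem_iInter.2 hx⟩ hcl.isLocallyClosed
    obtain ⟨w, hwW, hwc⟩ := nonempty_inter_closedPoints (Set.nonempty_coe_sort.1 hW) W.2.isLocallyClosed
    obtain ⟨v, hv, hvc⟩ := nonempty_inter_closedPoints
      (show (f.left ⁻¹' {w}).Nonempty from (f.left.surjective w).imp fun _ h => h)
      (hwc.preimage f.left.continuous).isLocallyClosed
    let rc : 𝟙_ (Over (Spec (CommRingCat.of K))) ⟶ X := Over.homMk (pointOfClosedPoint X.hom c hcc) (pointOfClosedPoint_comp _ _ _)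
    let rv : 𝟙_ (Over (Spec (CommRingCat.of K))) ⟶ X := Over.homMk (pointOfClosedPoint X.hom v hvc) (pointOfClosedPoint_comp _ _ _)
    refine Set.mem_iInter.1 hc (rv * rc⁻¹) ?_
    change f.left ((tX (rv * rc⁻¹)).left c) ∈ W
    have e : (tX (rv * rc⁻¹)).left c = v := by
      rw [← show rc.left pt = c from pointOfClosedPoint_apply _ _ _ _, ← Scheme.Hom.comp_apply, ← Over.comp_left, htx,
        _root_.mul_assoc, _root_.inv_mul_cancel, _root_.mul_one]
      exact pointOfClosedPoint_apply _ _ _ _
    rw [e, show f.left v = w from hv]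
    exact hwW
  have hflatU : ∀ a, Flat ((U a).ι ≫ f.left) := fun a => by
    have : IsIso (tY (a ≫ f)).left := hti _
    have : IsIso (tX a).left := hti _
    have e : (U a).ι ≫ f.left = ((tX a).left ∣_ (f.left ⁻¹ᵁ W)) ≫ (f.left ⁻¹ᵁ W).ι ≫ f.left ≫ inv (tY (a ≫ f)).left := by
      have h2 : (tX a).left ≫ f.left ≫ inv (tY (a ≫ f)).left = f.left := by
        rw [← Category.assoc, ← Over.comp_left, hcomm, Over.comp_left, Category.assoc, IsIso.hom_inv_id, Category.comp_id]
      rw [← Category.assoc, morphismRestrict_ι, Category.assoc, h2]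
    rw [e, ← Category.assoc (f.left ⁻¹ᵁ W).ι]
    infer_instance
  exact IsZariskiLocalAtSource.of_iSup_eq_top (P := @Flat) U
    (top_le_iff.1 fun x _ => TopologicalSpace.Opens.mem_iSup.2 (hcov x)) hflatU

/-- A finite surjective homomorphism of group varieties is flat. -/
theorem flat_of_isFinite (X Y : Over (Spec (CommRingCat.of K))) [GrpObj X] [GrpObj Y]
    [LocallyOfFiniteType X.hom] [LocallyOfFiniteType Y.hom] [GeometricallyIntegral Y.hom] (f : X ⟶ Y) [IsMonHom f]
    [IsFinite f.left] [Surjective f.left] : Flat f.left := by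
  let φ : Spec (CommRingCat.of (AlgebraicClosure K)) ⟶ Spec (CommRingCat.of K) :=
    Spec.map (CommRingCat.ofHom (algebraMap K (AlgebraicClosure K)))
  let P := Over.pullback φ
  have : LocallyOfFiniteType (P.obj X).hom := by dsimp [P]; infer_instance
  have : LocallyOfFiniteType (P.obj Y).hom := by dsimp [P]; infer_instance
  have : GeometricallyIntegral (P.obj Y).hom := by dsimp [P]; infer_instance
  have : IsIntegral (P.obj Y).left := GeometricallyIntegral.isIntegral_of_subsingleton (P.obj Y).hom
  have hfst : (P.map f).left ≫ pullback.fst Y.hom φ = pullback.fst X.hom φ ≫ f.left := pullback.lift_fst _ _ _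
  have hsq : IsPullback (P.map f).left (pullback.fst X.hom φ) (pullback.fst Y.hom φ) f.left := by
    refine (IsPullback.of_bot (v₂₁ := (P.obj Y).hom) (v₂₂ := Y.hom) (h₃₁ := φ) ?_ hfst.symm
      (IsPullback.of_hasPullback Y.hom φ)).flip
    rw [Over.w, Over.w]
    exact IsPullback.of_hasPullback X.hom φ
  have : IsFinite (P.map f).left := MorphismProperty.of_isPullback hsq.flip ‹IsFinite f.left›
  have : Surjective (P.map f).left := MorphismProperty.of_isPullback hsq.flip ‹Surjective f.left›
  have := flat_of_isFinite_isAlgClosed (P.obj X) (P.obj Y) (P.map f)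
  -- descend along the faithfully flat projection
  have : Surjective φ := inferInstance
  have : Flat φ := inferInstance
  refine Flat.of_stalkMap _ fun x => ?_
  obtain ⟨x', rfl⟩ := (pullback.fst X.hom φ).surjective x
  let π := pullback.fst X.hom φ
  have hflat : Flat (π ≫ f.left) := by rw [← hfst]; infer_instance
  have hcomp : ((π.stalkMap x').hom.comp (f.left.stalkMap (π x')).hom).Flat := by
    have h := Flat.stalkMap (π ≫ f.left) x'
    rw [Scheme.Hom.stalkMap_comp] at h
    exact h
  have hπ := Flat.stalkMap π x'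
  have hloc : IsLocalHom (π.stalkMap x').hom := inferInstance
  algebraize [(f.left.stalkMap (π x')).hom, (π.stalkMap x').hom,
    (π.stalkMap x').hom.comp (f.left.stalkMap (π x')).hom]
  have : IsLocalHom (algebraMap (X.left.presheaf.stalk (π x')) ((pullback X.hom φ).presheaf.stalk x')) := hloc
  have : Module.FaithfullyFlat (X.left.presheaf.stalk (π x')) ((pullback X.hom φ).presheaf.stalk x') :=
    Module.FaithfullyFlat.of_flat_of_isLocalHom
  exact GrothLib.Flatness.flat_of_faithfullyFlat (R := Y.left.presheaf.stalk (f.left (π x')))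
    (S := X.left.presheaf.stalk (π x')) (M := (pullback X.hom φ).presheaf.stalk x')

/-- A surjective morphism out of an abelian variety to a separated variety of the same dimension is
finite. -/
theorem isFinite_of_dim_eq (X Y : Over (Spec (CommRingCat.of K))) [GrpObj X] [IsProper X.hom]
    [GeometricallyIntegral X.hom] [IsSeparated Y.hom] [LocallyOfFiniteType Y.hom] [IsIntegral Y.left] (f : X ⟶ Y)
    [Surjective f.left] (hdim : topologicalKrullDim X.left = topologicalKrullDim Y.left) : IsFinite f.left := by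
  have : IsIntegral X.left := GeometricallyIntegral.isIntegral_of_subsingleton X.hom
  have : IsProper f.left := by
    have : IsProper (f.left ≫ Y.hom) := by rw [Over.w]; infer_instance
    exact IsProper.of_comp f.left Y.hom
  obtain ⟨n, m, e, hn, hm, he, hnme⟩ := Dim.exists_dim_genericFibre f.left Y.hom
  have he0 : e = 0 := by
    rw [hn, hm] at hdim
    have : n = m := by exact_mod_cast hdim
    omega
  subst he0
  obtain ⟨d, hd⟩ := Groth.Agent.S7799.result K X Y.hom f.left (Over.w f)
  let ξ := genericPoint Y.left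
  have hd0 : d = 0 := by
    obtain ⟨x, hx⟩ := f.left.surjective ξ
    have : Nonempty ↥(f.left.fiber ξ) := ⟨(f.left.fiberHomeo ξ).symm ⟨x, hx⟩⟩
    obtain ⟨C, hC⟩ : ∃ C, C ∈ irreducibleComponents ↥(f.left.fiber ξ) :=
      ⟨_, irreducibleComponent_mem_irreducibleComponents (Classical.arbitrary _)⟩
    have hle : topologicalKrullDim C ≤ (0 : ℕ) := by
      rw [← he]
      refine (Topology.IsEmbedding.isInducing ?_).topologicalKrullDim_le
        (f := fun z : C => (f.left.fiberHomeo ξ z.1))
      exact (f.left.fiberHomeo ξ).isEmbedding.comp Topology.IsEmbedding.subtypeVal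
    rw [hd ξ C hC] at hle
    exact Nat.le_zero.1 (by exact_mod_cast hle)
  subst hd0
  have : LocallyQuasiFinite f.left := .of_finite_preimage_singleton f.left fun y => by
    let g : f.left.fiber y ⟶ Spec (CommRingCat.of (Y.left.residueField y)) := f.left.fiberToSpecResidueField y
    have : LocallyOfFiniteType g := MorphismProperty.pullback_snd f.left (Y.left.fromSpecResidueField y) inferInstance
    have : IsLocallyNoetherian (f.left.fiber y) := LocallyOfFiniteType.isLocallyNoetherian g
    have : IsNoetherian (f.left.fiber y) := {}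
    have : Finite ↥(f.left.fiber y) := by
      rw [← Set.finite_univ_iff, show (Set.univ : Set ↥(f.left.fiber y)) =
        ⋃ C ∈ irreducibleComponents ↥(f.left.fiber y), C from (Set.eq_univ_of_forall fun z => Set.mem_biUnion
          (irreducibleComponent_mem_irreducibleComponents z) mem_irreducibleComponent).symm]
      exact NoetherianSpace.finite_irreducibleComponents.biUnion fun C hC =>
        (Dim.subsingleton_of_dim_eq_zero (isClosed_of_mem_irreducibleComponents C hC) hC.1 (by rw [hd y C hC]; simp)).finite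
    rw [← f.left.range_fiberι y]
    exact Set.finite_range _
  exact IsFinite.of_isProper_of_locallyQuasiFinite f.left

end GrothLib.Rigidity
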