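import Groth.Agent.Lib.Rigidity.Field
import Groth.Agent.Lib.RedSub.Basic

/-!
# Rigidity along a closed subset of a fibre
-/

universe u

open CategoryTheory Limits AlgebraicGeometry TopologicalSpace
open MonoidalCategory CartesianMonoidalCategory

namespace GrothLib.Rigidity

variable {K : Type u} [Field K]

local notation "pt" => IsLocalRing.closedPoint K

theorem toUnit_left_apply (X : Over (Spec (CommRingCat.of K))) (x : X.left) :
    (toUnit X).left x = pt := Subsingleton.elim (α := ↥(Spec (CommRingCat.of K))) _ _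

theorem isClosed_point {Z : Over (Spec (CommRingCat.of K))} [IsSeparated Z.hom] (p : 𝟙_ _ ⟶ Z) :
    IsClosed ({p.left pt} : Set Z.left) := by
  have : IsClosedImmersion p.left :=
    isClosedImmersion_of_comp_eq_id (Y := Spec (CommRingCat.of K)) Z.hom p.left (Over.w p)
  have e : Set.range p.left = {p.left pt} := by
    ext z
    refine ⟨?_, fun h => ⟨pt, h.symm⟩⟩
    rintro ⟨s, rfl⟩
    rw [Subsingleton.elim (α := ↥(Spec (CommRingCat.of K))) s pt]
    rfl
  rw [← e]
  exact p.left.isClosedEmbedding.isClosed_range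

/-- Translates of an irreducible closed set contained in the fibre over a rational point are contracted. -/
theorem exists_point_image_eq [IsAlgClosed K] {A X Z : Over (Spec (CommRingCat.of K))}
    [LocallyOfFiniteType A.hom] [GeometricallyIntegral A.hom] [IsProper X.hom] [IsSeparated Z.hom]
    (h : A ⊗ X ⟶ Z) (p₀ p₁ : 𝟙_ _ ⟶ A) (C : Set X.left) (hC : IsIrreducible C) (hC' : IsClosed C)
    (z₀ : 𝟙_ _ ⟶ Z) (hz : ∀ c ∈ C, (lift (toUnit X ≫ p₀) (𝟙 X) ≫ h).left c = z₀.left pt) :
    ∃ z₁ : 𝟙_ _ ⟶ Z, ∀ c ∈ C, (lift (toUnit X ≫ p₁) (𝟙 X) ≫ h).left c = z₁.left pt := by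
  let I := Scheme.IdealSheafData.vanishingIdeal (⟨C, hC'⟩ : Closeds X.left)
  have hr : Set.range I.subschemeι = C := RedSub.range_subschemeι_vanishingIdeal _
  let V : Over (Spec (CommRingCat.of K)) := Over.mk (I.subschemeι ≫ X.hom)
  let i : V ⟶ X := Over.homMk I.subschemeι rfl
  have : IsProper V.hom := by change IsProper (I.subschemeι ≫ X.hom); infer_instance
  have : IsReduced V.left := RedSub.isReduced_subscheme_vanishingIdeal _
  have : IrreducibleSpace V.left := by
    have : IrreducibleSpace (Set.range I.subschemeι) := by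
      rw [hr]; exact Subtype.irreducibleSpace hC
    exact Function.Surjective.irreducibleSpace (f := (I.subschemeι.isEmbedding.toHomeomorph).symm) (Homeomorph.continuous _) (Homeomorph.surjective _)
  have : IsIntegral V.left := (isIntegral_iff_irreducibleSpace_and_isReduced _).2 ⟨‹_›, ‹_›⟩
  have : IsLocallyNoetherian V.left := LocallyOfFiniteType.isLocallyNoetherian V.hom
  have : IsIntegral (V ⊗ A).left := by dsimp; infer_instance
  let g : V ⊗ A ⟶ Z := lift (snd V A) (fst V A ≫ i) ≫ h
  obtain ⟨v, hv⟩ : (closedPoints V.left).Nonempty := by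
    have : JacobsonSpace V.left := LocallyOfFiniteType.jacobsonSpace (Y := Spec _) V.hom
    simpa using (nonempty_inter_closedPoints (Set.univ_nonempty (α := V.left)) isOpen_univ.isLocallyClosed)
  let v₀ : 𝟙_ _ ⟶ V := Over.homMk (pointOfClosedPoint _ v hv) (pointOfClosedPoint_comp _ _ _)
  have hslice : ∀ p : 𝟙_ _ ⟶ A,
      lift (𝟙 V) (toUnit V ≫ p) ≫ g = i ≫ lift (toUnit X ≫ p) (𝟙 X) ≫ h := fun p => by
    simp only [g, comp_lift_assoc, lift_snd, lift_fst_assoc, Category.id_comp, Category.comp_id, comp_toUnit_assoc]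
  have h0 : lift (𝟙 V) (toUnit V ≫ p₀) ≫ g = toUnit V ≫ z₀ := by
    rw [hslice]
    have : IsClosedImmersion z₀.left :=
      isClosedImmersion_of_comp_eq_id (Y := Spec (CommRingCat.of K)) Z.hom z₀.left (Over.w z₀)
    obtain ⟨a, ha⟩ := RedSub.exists_lift (i ≫ lift (toUnit X ≫ p₀) (𝟙 X) ≫ h).left z₀.left (by
      rintro _ ⟨v, rfl⟩
      exact ⟨pt, (hz _ (hr ▸ Set.mem_range_self v)).symm⟩)
    refine Over.OverMorphism.ext ?_
    rw [← ha, Over.comp_left]
    congr 1
    have := Over.w (i ≫ lift (toUnit X ≫ p₀) (𝟙 X) ≫ h)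
    rw [← ha, Category.assoc, Over.w z₀] at this
    exact ((Category.comp_id a).symm.trans this)
  have key := eq_snd_comp_of_isAlgClosed g v₀ p₀ z₀ h0
  refine ⟨v₀ ≫ i ≫ lift (toUnit X ≫ p₁) (𝟙 X) ≫ h, fun c hc => ?_⟩
  obtain ⟨w, rfl⟩ := hr.ge hc
  have e : i ≫ lift (toUnit X ≫ p₁) (𝟙 X) ≫ h = toUnit V ≫ v₀ ≫ i ≫ lift (toUnit X ≫ p₁) (𝟙 X) ≫ h := by
    rw [← hslice]
    conv_lhs => rw [key]
    conv_rhs => rw [key]
    simp only [lift_snd_assoc, comp_toUnit_assoc, Category.assoc]
  calc (lift (toUnit X ≫ p₁) (𝟙 X) ≫ h).left (I.subschemeι w)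
      = (i ≫ lift (toUnit X ≫ p₁) (𝟙 X) ≫ h).left w := rfl
    _ = _ := by
      conv_lhs => rw [e]
      rw [Over.comp_left, Scheme.Hom.comp_apply, toUnit_left_apply]

variable {A X Z : Over (Spec (CommRingCat.of K))}

/-- Slices of `h` at rational points contract the same connected closed subsets. -/
theorem apply_eq_of_connected [LocallyOfFiniteType A.hom] [GeometricallyIntegral A.hom] [IsProper X.hom]
    [IsSeparated Z.hom] (h : A ⊗ X ⟶ Z) (p₀ p₁ : 𝟙_ _ ⟶ A) (F : Set X.left) (hF : _root_.IsPreconnected F)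
    (hF' : IsClosed F) (z₀ : 𝟙_ _ ⟶ Z)
    (hz : ∀ c ∈ F, (lift (toUnit X ≫ p₀) (𝟙 X) ≫ h).left c = z₀.left pt)
    (c₀ : X.left) (hc₀ : c₀ ∈ F) (z₁ : 𝟙_ _ ⟶ Z) (hz₁ : (lift (toUnit X ≫ p₁) (𝟙 X) ≫ h).left c₀ = z₁.left pt) :
    ∀ c ∈ F, (lift (toUnit X ≫ p₁) (𝟙 X) ≫ h).left c = z₁.left pt := by
  let L := AlgebraicClosure K
  let φ : Spec (CommRingCat.of L) ⟶ Spec (CommRingCat.of K) := Spec.map (CommRingCat.ofHom (algebraMap K L))
  let P := Over.pullback φ
  have : IsProper (P.obj X).hom := by dsimp [P]; infer_instance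
  have : LocallyOfFiniteType (P.obj A).hom := by dsimp [P]; infer_instance
  have : GeometricallyIntegral (P.obj A).hom := by dsimp [P]; infer_instance
  have : IsSeparated (P.obj Z).hom := by dsimp [P]; infer_instance
  let π : ∀ W : Over (Spec (CommRingCat.of K)), (P.obj W).left ⟶ W.left := fun W => pullback.fst W.hom φ
  have hπ : ∀ {W W' : Over (Spec (CommRingCat.of K))} (m : W ⟶ W'),
      (P.map m).left ≫ π W' = π W ≫ m.left := fun m => pullback.lift_fst _ _ _
  have hnat : ∀ {W W' : Over (Spec (CommRingCat.of K))} (m : W ⟶ W') (w : (P.obj W).left),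
      π W' ((P.map m).left w) = m.left (π W w) := fun {W W'} m w => by
    rw [← Scheme.Hom.comp_apply, ← Scheme.Hom.comp_apply, hπ]
  have : IsIntegralHom φ := IsIntegralHom.SpecMap_iff.2 (Algebra.IsIntegral.isIntegral (R := K) (A := L))
  -- points
  let pp : (𝟙_ (Over (Spec (CommRingCat.of K))) ⟶ A) → (𝟙_ (Over (Spec (CommRingCat.of L))) ⟶ P.obj A) :=
    fun p => Functor.LaxMonoidal.ε P ≫ P.map p
  let h' : P.obj A ⊗ P.obj X ⟶ P.obj Z := Functor.LaxMonoidal.μ P A X ≫ P.map h
  have hsl : ∀ p, lift (toUnit (P.obj X) ≫ pp p) (𝟙 _) ≫ h' = P.map (lift (toUnit X ≫ p) (𝟙 X) ≫ h) := fun p => by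
    have e1 : toUnit (P.obj X) ≫ pp p = P.map (toUnit X ≫ p) := by
      rw [P.map_comp, ← Category.assoc]
      congr 1
      rw [← cancel_mono (Functor.Monoidal.εIso P).inv]
      exact Subsingleton.elim _ _
    rw [e1, ← P.map_id, P.map_comp (lift _ _) h, ← Functor.Monoidal.lift_μ, Category.assoc]
  let z' : 𝟙_ (Over (Spec (CommRingCat.of L))) ⟶ P.obj Z := Functor.LaxMonoidal.ε P ≫ P.map z₀
  have hfib : ∀ w : (P.obj Z).left, π Z w = z₀.left pt → w = z'.left (IsLocalRing.closedPoint L) := by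
    intro w hw
    have hsq : IsPullback (P.map z₀).left (π (𝟙_ _)) (π Z) z₀.left := by
      refine IsPullback.of_right (h₁₂ := (P.obj Z).hom) (v₁₃ := φ) (h₂₂ := Z.hom) ?_ ?_
        (IsPullback.of_hasPullback Z.hom φ).flip
      · rw [Over.w, Over.w]
        exact (IsPullback.of_hasPullback _ φ).flip
      · exact hπ z₀
    obtain ⟨u, hu, -⟩ := Scheme.exists_preimage_of_isPullback hsq w pt hw
    rw [← hu]
    change (P.map z₀).left u = (P.map z₀).left ((Functor.LaxMonoidal.ε P).left (IsLocalRing.closedPoint L))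
    congr 1
    have : Subsingleton (P.obj (𝟙_ (Over (Spec (CommRingCat.of K))))).left := by
      have : Subsingleton (𝟙_ (Over (Spec (CommRingCat.of L)))).left :=
        inferInstanceAs (Subsingleton ↥(Spec (CommRingCat.of L)))
      exact Function.Injective.subsingleton (β := (𝟙_ (Over (Spec (CommRingCat.of L)))).left)
        ((Over.forget _).mapIso (Functor.Monoidal.εIso P)).schemeIsoToHomeo.symm.injective
    exact Subsingleton.elim _ _
  -- the step on one irreducible closed set
  have step : ∀ C ⊆ F, IsIrreducible C → IsClosed C → ∀ c ∈ C, ∀ q ∈ C,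
      (lift (toUnit X ≫ p₁) (𝟙 X) ≫ h).left c = (lift (toUnit X ≫ p₁) (𝟙 X) ≫ h).left q := by
    intro C hCF hC hCc c hc q hq
    have : Surjective φ := inferInstance
    obtain ⟨g', hg'⟩ := (inferInstance : Surjective (π X)).surj hC.genericPoint
    let C' : Set (P.obj X).left := closure {g'}
    have himg : π X '' C' = C := by
      apply Set.Subset.antisymm
      · rintro _ ⟨w, hw, rfl⟩
        have : closure {g'} ⊆ π X ⁻¹' C := by
          refine closure_minimal ?_ (hCc.preimage (π X).continuous)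
          rintro w rfl
          change π X w ∈ C
          rw [hg']
          exact (hC.isGenericPoint_genericPoint hCc).mem
        exact this hw
      · have hcl : IsClosed (π X '' C') := (π X).isClosedMap _ isClosed_closure
        calc C = closure {hC.genericPoint} := by rw [hC.genericPoint_closure_eq, hCc.closure_eq]
          _ ⊆ _ := closure_minimal (by rintro _ rfl; exact ⟨g', subset_closure rfl, hg'⟩) hcl
    obtain ⟨z₁', hz₁'⟩ := exists_point_image_eq h' (pp p₀) (pp p₁) C' isIrreducible_singleton.closure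
      isClosed_closure z' (fun w hw => by
        apply hfib
        rw [hsl, hnat]
        exact hz _ (hCF (himg ▸ Set.mem_image_of_mem _ hw)))
    obtain ⟨w, hw, rfl⟩ := himg.ge hc
    obtain ⟨v, hv, rfl⟩ := himg.ge hq
    rw [← hnat, ← hnat, ← hsl, hz₁' w hw, hz₁' v hv]
  -- connectedness
  let g := (lift (toUnit X ≫ p₁) (𝟙 X) ≫ h).left
  have : NoetherianSpace X.left := by
    have : IsLocallyNoetherian X.left := LocallyOfFiniteType.isLocallyNoetherian X.hom
    have : CompactSpace X.left := QuasiCompact.compactSpace_of_compactSpace X.hom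
    have : IsNoetherian X.left := {}
    infer_instance
  have : PreconnectedSpace F := Subtype.preconnectedSpace hF
  have hd : ∀ D ∈ irreducibleComponents F, ∀ a ∈ D, ∀ b ∈ D, g (a : F).1 = g (b : F).1 := by
    intro D hD a ha b hb
    exact step (Subtype.val '' D) (by simp) (hD.1.image _ continuous_subtype_val.continuousOn)
      (hF'.isClosedEmbedding_subtypeVal.isClosedMap _ (isClosed_of_mem_irreducibleComponents D hD))
      _ ⟨a, ha, rfl⟩ _ ⟨b, hb, rfl⟩
  let Q : Set F := {a | g a.1 = z₁.left pt}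
  have hQc : IsClosed Q := (isClosed_point z₁).preimage (g.continuous.comp continuous_subtype_val)
  have hQo : IsOpen Q := by
    rw [← isClosed_compl_iff]
    have : Qᶜ = ⋃ D ∈ {D ∈ irreducibleComponents F | ∃ a ∈ D, a ∉ Q}, D := by
      ext a
      simp only [Set.mem_compl_iff, Set.mem_iUnion, Set.mem_ofPred_eq, exists_prop]
      constructor
      · intro ha
        exact ⟨irreducibleComponent a, ⟨irreducibleComponent_mem_irreducibleComponents a, a, mem_irreducibleComponent, ha⟩, mem_irreducibleComponent⟩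
      · rintro ⟨D, ⟨hD, b, hb, hbQ⟩, ha⟩ haQ
        exact hbQ ((hd D hD b hb a ha).trans haQ)
    rw [this]
    exact (NoetherianSpace.finite_irreducibleComponents.subset fun D hD => hD.1).isClosed_biUnion
      fun D hD => isClosed_of_mem_irreducibleComponents D hD.1
  have := (IsClopen.eq_univ ⟨hQc, hQo⟩ ⟨⟨c₀, hc₀⟩, hz₁⟩)
  exact fun c hc => this.ge (Set.mem_univ (⟨c, hc⟩ : F))

end GrothLib.Rigidity
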