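import Groth.Agent.Lib.Rigidity.SmoothGroup
import Groth.Agent.Lib.GrpSchField.Field
import Groth.Agent.Lib.RedSub.Basic
import Groth.Agent.Lib.Dim.Scheme
import Mathlib.AlgebraicGeometry.Morphisms.SchemeTheoreticallyDominant

/-!
# Images of abelian varieties in group schemes; maximal abelian subgroup schemes
-/

universe u

open CategoryTheory Limits AlgebraicGeometry TopologicalSpace
open MonoidalCategory CartesianMonoidalCategory MonObj

namespace GrothLib.Rigidity

variable {K : Type u} [Field K]

/-- A reduced scheme dominated by a geometrically integral one is geometrically integral. -/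
theorem geometricallyIntegral_of_surjective {A Z : Scheme.{u}} (f : A ⟶ Z)
    (g : Z ⟶ Spec (CommRingCat.of K)) [Surjective f] [QuasiCompact f] [IsReduced Z]
    [GeometricallyIntegral (f ≫ g)] : GeometricallyIntegral g := by
  refine ⟨fun L _ y W fst snd h => ?_⟩
  have hP : IsPullback (pullback.fst f fst) (pullback.snd f fst ≫ snd) (f ≫ g) y :=
    (IsPullback.of_hasPullback f fst).paste_vert h
  have : IsIntegral (pullback f fst) := GeometricallyIntegral.geometrically_isIntegral _ _ _ hP
  have : Flat fst := MorphismProperty.of_isPullback h.flip (inferInstance : Flat y)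
  have : IsSchemeTheoreticallyDominant f := IsSchemeTheoreticallyDominant.of_isDominant f
  have : IsReduced W := IsSchemeTheoreticallyDominant.isReduced (pullback.snd f fst)
  have : IrreducibleSpace W :=
    (pullback.snd f fst).surjective.irreducibleSpace (pullback.snd f fst).continuous
  exact isIntegral_of_irreducibleSpace_of_isReduced W

/-- A geometrically reduced connected group scheme over a field is geometrically integral. -/
theorem geometricallyIntegral_of_connected (A : Over (Spec (CommRingCat.of K))) [GrpObj A]
    [LocallyOfFiniteType A.hom] [GeometricallyReduced A.hom] [ConnectedSpace A.left] :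
    GeometricallyIntegral A.hom := by
  have : IrreducibleSpace A.left := irreducibleSpace_of_connected A
  have : GeometricallyIrreducible (𝟙 A.left ≫ A.hom) :=
    GrpSchField.geometricallyIrreducible_component A (𝟙 A.left)
      (by
        have h : Set.range (𝟙 A.left : A.left ⟶ A.left) = Set.univ :=
          Set.range_eq_univ.2 fun x => ⟨x, rfl⟩
        rw [h]
        exact ⟨IrreducibleSpace.isIrreducible_univ _, fun _ _ _ => Set.subset_univ _⟩)
      ⟨_, rfl⟩
  have : GeometricallyIrreducible A.hom := by simpa using this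
  exact GeometricallyIntegral.of_geometricallyReduced_of_geometricallyIrreducible A.hom

variable {A G : Over (Spec (CommRingCat.of K))}

/-- The image of an abelian variety under a homomorphism is an abelian variety. -/
theorem exists_image [GrpObj A] [IsProper A.hom] [GeometricallyIntegral A.hom] [GrpObj G]
    [LocallyOfFiniteType G.hom] (φ : A ⟶ G) [IsMonHom φ] :
    ∃ (M : Over (Spec (CommRingCat.of K))) (_ : GrpObj M) (i : M ⟶ G), IsMonHom i ∧
      IsClosedImmersion i.left ∧ IsProper M.hom ∧ GeometricallyIntegral M.hom ∧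
      Set.range i.left = Set.range φ.left ∧ ∃ ψ : A ⟶ M, ψ ≫ i = φ := by
  let S := Spec (CommRingCat.of K)
  have : IsSeparated G.hom := GrpSchField.isSeparated G
  have : IsProper (φ.left ≫ G.hom) := by rw [Over.w]; infer_instance
  have : IsProper φ.left := IsProper.of_comp φ.left G.hom
  have : IsIntegral A.left := GeometricallyIntegral.isIntegral_of_subsingleton A.hom
  let C : Closeds G.left := ⟨Set.range φ.left, φ.left.isClosedMap.isClosed_range⟩
  let I := Scheme.IdealSheafData.vanishingIdeal C
  have hr : Set.range I.subschemeι = Set.range φ.left := RedSub.range_subschemeι_vanishingIdeal C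
  have : IsReduced I.subscheme := RedSub.isReduced_subscheme_vanishingIdeal C
  let M : Over S := Over.mk (I.subschemeι ≫ G.hom)
  let i : M ⟶ G := Over.homMk I.subschemeι rfl
  have hmono : Mono i := by
    have : Mono ((Over.forget S).map i) := inferInstanceAs (Mono I.subschemeι)
    exact (Over.forget S).mono_of_mono_map this
  have hlift : ∀ {T : Over S} [IsReduced T.left] (c : T ⟶ G),
      Set.range c.left ⊆ Set.range φ.left → ∃ d : T ⟶ M, d ≫ i = c := fun {T} _ c hc => by
    obtain ⟨g, hg⟩ := RedSub.exists_lift c.left I.subschemeι (by rw [hr]; exact hc)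
    exact ⟨Over.homMk g (by show g ≫ I.subschemeι ≫ G.hom = T.hom; rw [reassoc_of% hg, Over.w]),
      Over.OverMorphism.ext hg⟩
  obtain ⟨ψ, hψ⟩ := hlift φ subset_rfl
  have hψs : Surjective ψ.left := ⟨fun m => by
    obtain ⟨a, ha⟩ : I.subschemeι m ∈ Set.range φ.left := hr ▸ ⟨m, rfl⟩
    refine ⟨a, I.subschemeι.isClosedEmbedding.injective ?_⟩
    rw [← ha, ← hψ]
    rfl⟩
  have hLFTM : LocallyOfFiniteType M.hom := by dsimp [M]; infer_instance
  have : IsSeparated M.hom := by dsimp [M]; infer_instance
  have : IsProper ψ.left := by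
    have : IsProper (ψ.left ≫ M.hom) := by rw [Over.w]; infer_instance
    exact IsProper.of_comp ψ.left M.hom
  have : UniversallyClosed M.hom := by
    have : UniversallyClosed (ψ.left ≫ M.hom) := by rw [Over.w]; infer_instance
    exact UniversallyClosed.of_comp_surjective ψ.left M.hom
  have hMp : IsProper M.hom := {}
  have : IsReduced M.left := ‹IsReduced I.subscheme›
  have hMi : GeometricallyIntegral M.hom := by
    have : GeometricallyIntegral (ψ.left ≫ M.hom) := by rw [Over.w]; infer_instance
    exact geometricallyIntegral_of_surjective ψ.left M.hom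
  have : IsIntegral M.left := GeometricallyIntegral.isIntegral_of_subsingleton M.hom
  have : IsLocallyNoetherian M.left := LocallyOfFiniteType.isLocallyNoetherian M.hom
  obtain ⟨mM, hmM⟩ : ∃ d : M ⊗ M ⟶ M, d ≫ i = (i ⊗ₘ i) ≫ μ[G] := by
    have : IsReduced (M ⊗ M).left := inferInstanceAs (IsReduced (pullback M.hom M.hom))
    refine hlift _ ?_
    rintro _ ⟨c, rfl⟩
    have hs : Surjective (ψ ⊗ₘ ψ).left := by
      rw [Over.tensorHom_left]
      exact MorphismProperty.pullback_map (P := @Surjective) hψs hψs (Over.w ψ).symm (Over.w ψ).symm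
    obtain ⟨d, rfl⟩ := hs.surj c
    rw [← Scheme.Hom.comp_apply, ← Over.comp_left]
    have : (ψ ⊗ₘ ψ) ≫ (i ⊗ₘ i) ≫ μ[G] = μ[A] ≫ φ := by
      rw [tensorHom_comp_tensorHom_assoc, hψ, IsMonHom.mul_hom]
    rw [this, Over.comp_left, Scheme.Hom.comp_apply]
    exact ⟨_, rfl⟩
  obtain ⟨ιM, hιM⟩ : ∃ d : M ⟶ M, d ≫ i = i ≫ GrpObj.inv (X := G) := by
    refine hlift _ ?_
    rintro _ ⟨c, rfl⟩
    obtain ⟨d, rfl⟩ := hψs.surj c
    rw [← Scheme.Hom.comp_apply, ← Over.comp_left, reassoc_of% hψ, ← GrpObj.inv_hom φ,
      Over.comp_left, Scheme.Hom.comp_apply]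
    exact ⟨_, rfl⟩
  let eM : 𝟙_ (Over S) ⟶ M := η[A] ≫ ψ
  have heM : eM ≫ i = η[G] := by rw [Category.assoc, hψ, IsMonHom.one_hom]
  let g : GrpObj M :=
    { one := eM
      mul := mM
      one_mul := by
        rw [← cancel_mono i, Category.assoc, hmM, ← Category.assoc, ← tensorHom_id,
          tensorHom_comp_tensorHom, heM, Category.id_comp, tensorHom_def, Category.assoc,
          ← whisker_exchange_assoc, MonObj.one_mul, leftUnitor_naturality]
      mul_one := by
        rw [← cancel_mono i, Category.assoc, hmM, ← Category.assoc, ← id_tensorHom,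
          tensorHom_comp_tensorHom, heM, Category.id_comp, tensorHom_def', Category.assoc,
          whisker_exchange_assoc, MonObj.mul_one, rightUnitor_naturality]
      mul_assoc := by
        rw [← cancel_mono i, Category.assoc, hmM, ← Category.assoc (mM ▷ M), ← tensorHom_id,
          tensorHom_comp_tensorHom, hmM, Category.id_comp, Category.assoc, Category.assoc, hmM,
          ← Category.assoc (M ◁ mM), ← id_tensorHom, tensorHom_comp_tensorHom, hmM, Category.id_comp]
        rw [show ((i ⊗ₘ i) ≫ μ[G]) ⊗ₘ i = ((i ⊗ₘ i) ⊗ₘ i) ≫ μ[G] ▷ G by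
            rw [← tensorHom_id, tensorHom_comp_tensorHom, Category.comp_id],
          show i ⊗ₘ ((i ⊗ₘ i) ≫ μ[G]) = (i ⊗ₘ (i ⊗ₘ i)) ≫ G ◁ μ[G] by
            rw [← id_tensorHom, tensorHom_comp_tensorHom, Category.comp_id],
          Category.assoc, MonObj.mul_assoc, associator_naturality_assoc, Category.assoc]
      inv := ιM
      left_inv := by
        rw [← cancel_mono i, Category.assoc, hmM, lift_map_assoc, hιM, Category.id_comp, Category.assoc,
          heM, ← Category.comp_id i]
        simp [← comp_lift_assoc]
      right_inv := by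
        rw [← cancel_mono i, Category.assoc, hmM, lift_map_assoc, hιM, Category.id_comp, Category.assoc,
          heM]
        conv_lhs => arg 1; arg 1; rw [← Category.comp_id i]
        simp [← comp_lift_assoc] }
  refine ⟨M, g, i, ⟨heM, hmM⟩, inferInstanceAs (IsClosedImmersion I.subschemeι), hMp, hMi, hr, ψ, hψ⟩

end GrothLib.Rigidity
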