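import Groth.Agent.Lib.Rigidity.Field
import Groth.Agent.Lib.GrpSchField.Points

/-!
# Consequences of rigidity for morphisms to group schemes

No commutativity of the target is assumed.
-/

universe u

open CategoryTheory Limits AlgebraicGeometry
open MonoidalCategory CartesianMonoidalCategory MonObj

namespace GrothLib.Rigidity

variable {K : Type u} [Field K] {V W G : Over (Spec (CommRingCat.of K))}

theorem toUnit_comp_one [GrpObj G] {T : Over (Spec (CommRingCat.of K))} : toUnit T ≫ η[G] = (1 : T ⟶ G) :=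
  (Hom.one_def).symm

/-- A morphism `V ⊗ W ⟶ G` is the product of its restrictions to the two axes, `V` being proper. -/
theorem eq_mul_of_slices [IsProper V.hom] [GeometricallyIntegral V.hom] [LocallyOfFiniteType W.hom]
    [GeometricallyIntegral W.hom] [GrpObj G] [IsSeparated G.hom] (h : V ⊗ W ⟶ G)
    (v₀ : 𝟙_ _ ⟶ V) (w₀ : 𝟙_ _ ⟶ W) (h0 : lift v₀ w₀ ≫ h = η[G]) :
    h = (fst V W ≫ lift (𝟙 V) (toUnit V ≫ w₀) ≫ h) * (snd V W ≫ lift (toUnit W ≫ v₀) (𝟙 W) ≫ h) := by
  set p : V ⟶ G := lift (𝟙 V) (toUnit V ≫ w₀) ≫ h with hp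
  set q : W ⟶ G := lift (toUnit W ≫ v₀) (𝟙 W) ≫ h with hq
  have hp0 : v₀ ≫ p = η[G] := by
    rw [hp, ← h0, comp_lift_assoc, Category.comp_id]
    congr 2
    rw [← Category.assoc, Subsingleton.elim (v₀ ≫ toUnit V) (𝟙 _), Category.id_comp]
  have hq0 : w₀ ≫ q = η[G] := by
    rw [hq, ← h0, comp_lift_assoc, Category.comp_id]
    congr 2
    rw [← Category.assoc, Subsingleton.elim (w₀ ≫ toUnit W) (𝟙 _), Category.id_comp]
  let d := h * ((fst V W ≫ p) * (snd V W ≫ q))⁻¹
  suffices hd : d = 1 by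
    have := eq_inv_of_mul_eq_one_left hd
    rwa [_root_.inv_inv] at this
  have hVd : lift (𝟙 V) (toUnit V ≫ w₀) ≫ d = toUnit V ≫ η[G] := by
    simp only [d, MonObj.comp_mul, GrpObj.comp_inv, lift_fst_assoc, lift_snd_assoc, Category.id_comp,
      Category.assoc, hq0, toUnit_comp_one, _root_.mul_one]
    rw [← hp, _root_.mul_inv_cancel]
  obtain ⟨g, hg, -⟩ := eq_snd_comp_of_point d w₀ η[G] hVd
  have hWd : lift (toUnit W ≫ v₀) (𝟙 W) ≫ d = toUnit W ≫ η[G] := by
    simp only [d, MonObj.comp_mul, GrpObj.comp_inv, lift_fst_assoc, lift_snd_assoc, Category.id_comp,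
      Category.assoc, hp0, toUnit_comp_one, _root_.one_mul]
    rw [← hq, _root_.mul_inv_cancel]
  rw [hg, lift_snd_assoc, Category.id_comp, toUnit_comp_one] at hWd
  rw [hg, hWd, MonObj.comp_one]

/-- A pointed morphism from an abelian variety to a separated group scheme is a homomorphism. -/
theorem isMonHom_of_one_comp [GrpObj V] [IsProper V.hom] [GeometricallyIntegral V.hom] [GrpObj G]
    [IsSeparated G.hom] (f : V ⟶ G) (hf : η[V] ≫ f = η[G]) : IsMonHom f := by
  refine GrothLib.GrpSchField.isMonHom_of_mul f ?_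
  have h0 : lift η[V] η[V] ≫ μ[V] ≫ f = η[G] := by
    rw [← Category.assoc, show lift η[V] η[V] ≫ μ[V] = η[V] by
      simpa using lift_comp_one_right (f := η[V]) (g := 𝟙 _), hf]
  rw [eq_mul_of_slices (μ[V] ≫ f) η[V] η[V] h0]
  have h1 : lift (𝟙 V) (toUnit V ≫ η[V]) ≫ μ[V] = 𝟙 V := by
    rw [← Hom.mul_def, toUnit_comp_one, _root_.mul_one]
  have h2 : lift (toUnit V ≫ η[V]) (𝟙 V) ≫ μ[V] = 𝟙 V := by
    rw [← Hom.mul_def, toUnit_comp_one, _root_.one_mul]
  rw [reassoc_of% h1, reassoc_of% h2, Hom.mul_def]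
  congr 1

/-- Pointed morphisms out of an abelian variety, up to translation. -/
theorem isMonHom_mul_inv_const [GrpObj V] [IsProper V.hom] [GeometricallyIntegral V.hom] [GrpObj G]
    [IsSeparated G.hom] (f : V ⟶ G) : IsMonHom (f * (toUnit V ≫ η[V] ≫ f)⁻¹) := by
  refine isMonHom_of_one_comp _ ?_
  rw [MonObj.comp_mul, GrpObj.comp_inv, ← Category.assoc, Subsingleton.elim (η[V] ≫ toUnit V) (𝟙 _),
    Category.id_comp, _root_.mul_inv_cancel, Hom.one_def, Subsingleton.elim (toUnit (𝟙_ _)) (𝟙 _), Category.id_comp]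

end GrothLib.Rigidity
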