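import Mathlib.AlgebraicGeometry.Group.Abelian
import Mathlib.AlgebraicGeometry.Sites.Fpqc
import Mathlib.AlgebraicGeometry.Morphisms.Proper
import Mathlib.CategoryTheory.Monoidal.Cartesian.Over

/-!
# The rigidity lemma over a field
-/

universe u

open CategoryTheory Limits AlgebraicGeometry
open MonoidalCategory CartesianMonoidalCategory

namespace GrothLib.Rigidity

variable {K : Type u} [Field K]

/-- A morphism from a proper integral scheme over an algebraically closed field to an affine scheme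
is constant. -/
theorem eq_comp_section_of_isAffine [IsAlgClosed K] {X U : Scheme.{u}} (p : X ⟶ Spec (.of K)) [IsProper p]
    [IsIntegral X] [IsAffine U] (σ : Spec (.of K) ⟶ X) (hσ : σ ≫ p = 𝟙 _) (h : X ⟶ U) :
    h = p ≫ σ ≫ h := by
  apply ext_of_isAffine
  have hsurj : Function.Surjective p.appTop.hom := by
    let F := (Scheme.ΓSpecIso (.of K)).inv ≫ p.appTop
    let : Field Γ(X, ⊤) := (isField_of_universallyClosed K p).toField
    have hfin : F.hom.Finite := by
      refine RingHom.Finite.comp (finite_appTop_of_universallyClosed K p) ?_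
      exact RingHom.Finite.of_surjective _
        ((Scheme.ΓSpecIso (.of K)).symm.commRingCatIsoToRingEquiv.surjective)
    have := (IsAlgClosed.ringHom_bijective_of_isIntegral _ (RingHom.Finite.to_isIntegral hfin)).2
    exact fun a ↦ have ⟨b, hb⟩ := this a; ⟨_, hb⟩
  have hid : σ.appTop ≫ p.appTop = 𝟙 _ := by
    refine CommRingCat.hom_ext (RingHom.ext fun a ↦ ?_)
    obtain ⟨b, rfl⟩ := hsurj a
    simp only [CommRingCat.hom_comp, RingHom.coe_comp, Function.comp_apply, CommRingCat.hom_id, RingHom.id_apply]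
    congr 1
    have := congr(($hσ).appTop.hom b)
    simpa using this
  rw [Scheme.Hom.comp_appTop, Scheme.Hom.comp_appTop, Category.assoc, hid, Category.comp_id]

variable {X Y Z : Over (Spec (CommRingCat.of K))}

/-- The rigidity lemma over an algebraically closed field, for schemes with rational points. -/
theorem eq_snd_comp_of_isAlgClosed [IsAlgClosed K] [IsProper X.hom] [IsIntegral X.left]
    [LocallyOfFiniteType Y.hom] [IsIntegral (X ⊗ Y).left] [IsSeparated Z.hom]
    (f : X ⊗ Y ⟶ Z) (x₀ : 𝟙_ _ ⟶ X) (y₀ : 𝟙_ _ ⟶ Y) (z₀ : 𝟙_ _ ⟶ Z)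
    (h : lift (𝟙 X) (toUnit X ≫ y₀) ≫ f = toUnit X ≫ z₀) :
    f = snd X Y ≫ lift (toUnit Y ≫ x₀) (𝟙 Y) ≫ f := by
  let S := Spec (CommRingCat.of K)
  let pt : S := IsLocalRing.closedPoint K
  have : LocallyOfFiniteType (X ⊗ Y).hom := by dsimp; infer_instance
  have : JacobsonSpace (X ⊗ Y).left := LocallyOfFiniteType.jacobsonSpace (Y := Spec _) (X ⊗ Y).hom
  have : UniversallyClosed (snd X Y).left := by dsimp; infer_instance
  obtain ⟨_, ⟨U, hU, rfl⟩, hzU, -⟩ :=
    Z.left.isBasis_affineOpens.exists_subset_of_mem_open (Set.mem_univ (z₀.left pt)) isOpen_univ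
  have : IsAffine U := hU
  let B : Set Y.left := (snd X Y).left '' (f.left ⁻¹' (U : Set Z.left)ᶜ)
  have hB : IsClosed B := (snd X Y).left.isClosedMap _ (U.isOpen.isClosed_compl.preimage f.left.continuous)
  have hpt : IsClosed ({y₀.left pt} : Set Y.left) := by
    have : IsClosedImmersion y₀.left := isClosedImmersion_of_comp_eq_id (Y := Spec (CommRingCat.of K)) Y.hom y₀.left (Over.w y₀)
    simpa using y₀.left.isClosedMap _ (isClosed_discrete ({pt} : Set S))
  have hy₀ : y₀.left pt ∉ B := by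
    rintro ⟨p, hp, hpy⟩
    obtain ⟨c₀, ⟨hc₁, hc₂⟩, hc₃⟩ := nonempty_inter_closedPoints
      (show (f.left ⁻¹' (U : Set Z.left)ᶜ ∩ (snd X Y).left ⁻¹' {y₀.left pt}).Nonempty from ⟨p, hp, hpy⟩)
      ((U.isOpen.isClosed_compl.preimage f.left.continuous).inter
        (hpt.preimage (snd X Y).left.continuous)).isLocallyClosed
    let q : 𝟙_ (Over S) ⟶ X ⊗ Y := Over.homMk (pointOfClosedPoint (X ⊗ Y).hom c₀ hc₃) (pointOfClosedPoint_comp _ _ _)
    have hq : q.left pt = c₀ := pointOfClosedPoint_apply _ _ _ _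
    have hqy : q ≫ snd X Y = y₀ := by
      ext1
      refine ext_of_apply_closedPoint_eq Y.hom (Over.w _) (Over.w _) ?_
      rw [Over.comp_left, Scheme.Hom.comp_apply, hq]
      exact hc₂
    have hq2 : q = (q ≫ fst X Y) ≫ lift (𝟙 X) (toUnit X ≫ y₀) := by
      ext
      · simp
      · simp [hqy]
    have hqf : q ≫ f = z₀ := by
      rw [hq2, Category.assoc, Category.assoc, h, ← Category.assoc, ← Category.assoc,
        Subsingleton.elim ((q ≫ fst X Y) ≫ toUnit X) (𝟙 _), Category.id_comp]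
    apply hc₁
    rw [← hq, ← Scheme.Hom.comp_apply, ← Over.comp_left, hqf]
    exact hzU
  have hsndsurj : ∀ y : Y.left, ∃ p, (snd X Y).left p = y := fun y ↦
    ⟨(lift (toUnit Y ≫ x₀) (𝟙 Y)).left y, by
      rw [← Scheme.Hom.comp_apply, ← Over.comp_left, lift_snd, Over.id_left, Scheme.Hom.id_base]; rfl⟩
  have hWo : IsOpen ((snd X Y).left ⁻¹' Bᶜ) := hB.isOpen_compl.preimage (snd X Y).left.continuous
  have hWne : ((snd X Y).left ⁻¹' Bᶜ).Nonempty := have ⟨p, hp⟩ := hsndsurj (y₀.left pt); ⟨p, fun h ↦ hy₀ (hp ▸ h)⟩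
  refine Over.OverMorphism.ext ?_
  refine ext_of_fromSpecResidueField_eq _ _ Z.hom ((snd X Y).left ⁻¹' Bᶜ ∩ closedPoints _) ?_ ?_ (by rw [Over.w, Over.w])
  · rw [dense_iff_closure_eq, JacobsonSpace.closure_inter_closedPoints_eq_closure hWo.isLocallyClosed,
      ← dense_iff_closure_eq]
    exact hWo.dense hWne
  rintro p ⟨hpB, hp⟩
  let q : 𝟙_ (Over S) ⟶ X ⊗ Y := Over.homMk (pointOfClosedPoint (X ⊗ Y).hom p hp) (pointOfClosedPoint_comp _ _ _)
  suffices key : q ≫ f = q ≫ snd X Y ≫ lift (toUnit Y ≫ x₀) (𝟙 Y) ≫ f by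
    rw [← cancel_epi (Spec.map (residueFieldIsoBase (X ⊗ Y).hom p hp).hom)]
    have := congr_arg (fun m ↦ m.left) key
    simpa [q, pointOfClosedPoint] using this
  let y : 𝟙_ (Over S) ⟶ Y := q ≫ snd X Y
  let j : X ⟶ X ⊗ Y := lift (𝟙 X) (toUnit X ≫ y)
  have hrange : Set.range (j ≫ f).left ⊆ Set.range (Scheme.Opens.ι U) := by
    rw [Scheme.Opens.range_ι]
    rintro _ ⟨x, rfl⟩
    by_contra hx
    refine hpB ⟨j.left x, by rw [Over.comp_left, Scheme.Hom.comp_apply] at hx; exact hx, ?_⟩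
    rw [← Scheme.Hom.comp_apply, ← Over.comp_left, show j ≫ snd X Y = toUnit X ≫ y from lift_snd _ _,
      Over.comp_left, Scheme.Hom.comp_apply,
      show (toUnit X).left x = pt from Subsingleton.elim (α := ↥S) _ _]
    exact congrArg (snd X Y).left (pointOfClosedPoint_apply _ _ _ _)
  let h' := IsOpenImmersion.lift (Scheme.Opens.ι U) (j ≫ f).left hrange
  have h'eq : h' ≫ (Scheme.Opens.ι U) = (j ≫ f).left := IsOpenImmersion.lift_fac _ _ _
  have hconst : j ≫ f = toUnit X ≫ x₀ ≫ j ≫ f := by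
    refine Over.OverMorphism.ext ?_
    change (j ≫ f).left = X.hom ≫ x₀.left ≫ (j ≫ f).left
    rw [← h'eq]
    conv_lhs => rw [eq_comp_section_of_isAffine X.hom x₀.left (Over.w x₀) h']
    simp only [Category.assoc]
  have hq2 : q = (q ≫ fst X Y) ≫ j := by
    ext
    · simp [j]
    · simp [j, y]
  have hq3 : q ≫ snd X Y ≫ lift (toUnit Y ≫ x₀) (𝟙 Y) = x₀ ≫ j := by
    ext
    · simp [j]
    · simp [j, y]
  rw [reassoc_of% hq3]
  conv_lhs => rw [hq2, Category.assoc, Category.assoc, hconst, ← Category.assoc, ← Category.assoc,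
    Subsingleton.elim ((q ≫ fst X Y) ≫ toUnit X) (𝟙 _), Category.id_comp]

/-- Rigidity: `f (x₁, y)` does not depend on `x₁`, if `f` contracts a geometric slice. -/
theorem pair_eq_of_const_geometricPoint [IsProper X.hom] [GeometricallyIntegral X.hom]
    [LocallyOfFiniteType Y.hom] [GeometricallyIntegral Y.hom] [IsSeparated Z.hom] (f : X ⊗ Y ⟶ Z)
    (L : Type u) [Field L] [Algebra K L] [IsAlgClosed L]
    (y₀ : Over.mk (Spec.map (CommRingCat.ofHom (algebraMap K L))) ⟶ Y)
    (z₀ : Over.mk (Spec.map (CommRingCat.ofHom (algebraMap K L))) ⟶ Z)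
    (h : (X ◁ y₀) ≫ f = snd X _ ≫ z₀) :
    lift (fst (X ⊗ X) Y ≫ fst X X) (snd (X ⊗ X) Y) ≫ f =
      lift (fst (X ⊗ X) Y ≫ snd X X) (snd (X ⊗ X) Y) ≫ f := by
  let φ : Spec (CommRingCat.of L) ⟶ Spec (CommRingCat.of K) := Spec.map (CommRingCat.ofHom (algebraMap K L))
  let F := Over.pullback φ
  have : IsProper (F.obj X).hom := by dsimp [F]; infer_instance
  have : IsIntegral (F.obj X).left := by
    have : GeometricallyIntegral (F.obj X).hom := by dsimp [F]; infer_instance
    exact GeometricallyIntegral.isIntegral_of_subsingleton (F.obj X).hom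
  have : LocallyOfFiniteType (F.obj Y).hom := by dsimp [F]; infer_instance
  have : IsSeparated (F.obj Z).hom := by dsimp [F]; infer_instance
  have : IsIntegral (F.obj X ⊗ F.obj Y).left := by
    dsimp [F]; infer_instance
  /-
    have : GeometricallyIntegral (F.obj X).hom := by dsimp [F]; infer_instance
    have : GeometricallyIntegral (F.obj Y).hom := by dsimp [F]; infer_instance
    have : IsIntegral (F.obj Y).left := GeometricallyIntegral.isIntegral_of_subsingleton (F.obj Y).hom
    have : IsLocallyNoetherian (Spec (CommRingCat.of L)) := inferInstance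
    dsimp; infer_instance -/
  -- the sections after base change
  let y₁ : 𝟙_ (Over (Spec (CommRingCat.of L))) ⟶ F.obj Y :=
    Over.homMk (pullback.lift y₀.left (𝟙 _) (by simpa [φ] using Over.w y₀)) (pullback.lift_snd _ _ _)
  let z₁ : 𝟙_ (Over (Spec (CommRingCat.of L))) ⟶ F.obj Z :=
    Over.homMk (pullback.lift z₀.left (𝟙 _) (by simpa [φ] using Over.w z₀)) (pullback.lift_snd _ _ _)
  obtain ⟨x, hx⟩ : (closedPoints (F.obj X).left).Nonempty := by
    have : JacobsonSpace (F.obj X).left := LocallyOfFiniteType.jacobsonSpace (Y := Spec _) (F.obj X).hom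
    simpa using (nonempty_inter_closedPoints (Set.univ_nonempty (α := (F.obj X).left)) isOpen_univ.isLocallyClosed)
  let x₁ : 𝟙_ (Over (Spec (CommRingCat.of L))) ⟶ F.obj X := Over.homMk (pointOfClosedPoint _ x hx) (pointOfClosedPoint_comp _ _ _)
  let f' : F.obj X ⊗ F.obj Y ⟶ F.obj Z := Functor.LaxMonoidal.μ F X Y ≫ F.map f
  let m : F.obj X ⟶ F.obj (X ⊗ Y) :=
    Over.homMk (pullback.lift (X ◁ y₀).left (pullback.snd X.hom φ) (by
      rw [Over.w]; exact pullback.condition)) (pullback.lift_snd _ _ _)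
  have hX1 : (X ◁ y₀).left ≫ (fst X Y).left = pullback.fst X.hom φ :=
    congr_arg (fun m ↦ m.left) (whiskerLeft_fst X y₀)
  have hX2 : (X ◁ y₀).left ≫ (snd X Y).left = pullback.snd X.hom φ ≫ y₀.left :=
    congr_arg (fun m ↦ m.left) (whiskerLeft_snd X y₀)
  simp only [Over.fst_left, Over.snd_left] at hX1 hX2
  have hm : lift (𝟙 (F.obj X)) (toUnit (F.obj X) ≫ y₁) ≫ Functor.LaxMonoidal.μ F X Y = m := by
    have hcancel : ∀ (a b : F.obj X ⟶ F.obj (X ⊗ Y)), a ≫ F.map (fst X Y) = b ≫ F.map (fst X Y) →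
        a ≫ F.map (snd X Y) = b ≫ F.map (snd X Y) → a = b := by
      intro a b h1 h2
      rw [← cancel_mono (Functor.Monoidal.μIso F X Y).inv]
      apply CartesianMonoidalCategory.hom_ext <;>
        simp only [Category.assoc, Functor.Monoidal.μIso_inv, Functor.OplaxMonoidal.δ_fst, Functor.OplaxMonoidal.δ_snd, h1, h2]
    apply hcancel
    · rw [Category.assoc, Functor.Monoidal.μ_fst, lift_fst]
      ext1; apply pullback.hom_ext
      · simp only [F, m, Over.comp_left, Over.pullback_map_left, Over.homMk_left, Over.id_left, Category.assoc]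
        erw [pullback.lift_fst, pullback.lift_fst_assoc, Category.id_comp]
        exact hX1.symm
      · simp only [F, m, Over.comp_left, Over.pullback_map_left, Over.homMk_left, Over.id_left, Category.assoc]
        erw [pullback.lift_snd, pullback.lift_snd, Category.id_comp]
    · rw [Category.assoc, Functor.Monoidal.μ_snd, lift_snd]
      ext1; apply pullback.hom_ext <;> simp [m, F, φ, y₁] <;>
        (repeat' first | erw [pullback.lift_fst] | erw [pullback.lift_snd] | erw [pullback.lift_fst_assoc] |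
          erw [pullback.lift_snd_assoc]) <;> first | exact hX2.symm | exact (pullback.condition).trans (congrArg (pullback.snd X.hom φ ≫ ·) (Over.w y₀).symm) | simp
  have h1 : lift (𝟙 (F.obj X)) (toUnit (F.obj X) ≫ y₁) ≫ f' = toUnit (F.obj X) ≫ z₁ := by
    rw [← Category.assoc, hm]
    have h' : (X ◁ y₀).left ≫ f.left = pullback.snd X.hom φ ≫ z₀.left := congr_arg (fun m ↦ m.left) h
    ext1; apply pullback.hom_ext <;> simp [m, F, φ, z₁] <;>
      (repeat' first | erw [pullback.lift_fst] | erw [pullback.lift_snd] | erw [pullback.lift_fst_assoc] |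
        erw [pullback.lift_snd_assoc]) <;> first | exact h' | simp
  have key := eq_snd_comp_of_isAlgClosed f' x₁ y₁ z₁ h1
  apply F.map_injective
  have e : ∀ {T : Over (Spec (CommRingCat.of K))} (u : T ⟶ X) (v : T ⟶ Y),
      F.map (lift u v ≫ f) = F.map v ≫ lift (toUnit _ ≫ x₁) (𝟙 _) ≫ f' := by
    intro T u v
    rw [F.map_comp, ← Functor.Monoidal.lift_μ, Category.assoc]
    change lift (F.map u) (F.map v) ≫ f' = _
    conv_lhs => rw [key]
    rw [lift_snd_assoc]
  rw [e, e]

/-- The rigidity lemma: a morphism contracting one geometric slice factors through the projection. -/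
theorem existsUnique_eq_snd_comp [IsProper X.hom] [GeometricallyIntegral X.hom]
    [LocallyOfFiniteType Y.hom] [GeometricallyIntegral Y.hom] [IsSeparated Z.hom] (f : X ⊗ Y ⟶ Z)
    (L : Type u) [Field L] [Algebra K L] [IsAlgClosed L]
    (y₀ : Over.mk (Spec.map (CommRingCat.ofHom (algebraMap K L))) ⟶ Y)
    (z₀ : Over.mk (Spec.map (CommRingCat.ofHom (algebraMap K L))) ⟶ Z)
    (h : (X ◁ y₀) ≫ f = snd X _ ≫ z₀) :
    ∃! g : Y ⟶ Z, f = snd X Y ≫ g := by
  have h2 := pair_eq_of_const_geometricPoint f L y₀ z₀ h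
  have : Surjective (snd X Y).left := by dsimp; infer_instance
  have : Flat (snd X Y).left := by dsimp; infer_instance
  have : QuasiCompact (snd X Y).left := by dsimp; infer_instance
  have hkp : ∀ {T : Scheme.{u}} (a b : T ⟶ (X ⊗ Y).left),
      a ≫ (snd X Y).left = b ≫ (snd X Y).left → a ≫ f.left = b ≫ f.left := by
    intro T a b hab
    let T' : Over (Spec (CommRingCat.of K)) := Over.mk (a ≫ (X ⊗ Y).hom)
    let a' : T' ⟶ X ⊗ Y := Over.homMk a rfl
    let b' : T' ⟶ X ⊗ Y := Over.homMk b (by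
      change b ≫ (X ⊗ Y).hom = a ≫ (X ⊗ Y).hom
      rw [← Over.w (snd X Y), ← Category.assoc, ← hab, Category.assoc])
    have hab' : a' ≫ snd X Y = b' ≫ snd X Y := Over.OverMorphism.ext hab
    have := congrArg (fun t ↦ lift (lift (a' ≫ fst X Y) (b' ≫ fst X Y)) (a' ≫ snd X Y) ≫ t) h2
    simp only [comp_lift_assoc, lift_fst_assoc, lift_fst, lift_snd] at this
    have ea : lift (a' ≫ fst X Y) (a' ≫ snd X Y) = a' := by ext <;> simp
    have eb : lift (b' ≫ fst X Y) (a' ≫ snd X Y) = b' := by ext <;> simp [hab']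
    rw [ea, eb] at this
    exact congr_arg (fun m ↦ m.left) this
  let hE := EffectiveEpi.desc (snd X Y).left f.left fun a b hab ↦ hkp a b hab
  have hfac : (snd X Y).left ≫ hE = f.left := EffectiveEpi.fac _ _ _
  refine ⟨Over.homMk hE ?_, ?_, fun g hg ↦ ?_⟩
  · rw [← cancel_epi (snd X Y).left, ← Category.assoc, hfac, Over.w, Over.w]
  · exact Over.OverMorphism.ext hfac.symm
  · refine Over.OverMorphism.ext ?_
    rw [← cancel_epi (snd X Y).left]
    change (snd X Y).left ≫ g.left = (snd X Y).left ≫ hE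
    rw [hfac, show f = snd X Y ≫ g from hg, Over.comp_left]

/-- The rigidity lemma for a rational point. -/
theorem eq_snd_comp_of_point [IsProper X.hom] [GeometricallyIntegral X.hom]
    [LocallyOfFiniteType Y.hom] [GeometricallyIntegral Y.hom] [IsSeparated Z.hom] (f : X ⊗ Y ⟶ Z)
    (y₀ : 𝟙_ _ ⟶ Y) (z₀ : 𝟙_ _ ⟶ Z) (h : lift (𝟙 X) (toUnit X ≫ y₀) ≫ f = toUnit X ≫ z₀) :
    ∃! g : Y ⟶ Z, f = snd X Y ≫ g := by
  refine existsUnique_eq_snd_comp f (AlgebraicClosure K) (toUnit _ ≫ y₀) (toUnit _ ≫ z₀) ?_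
  have : X ◁ (toUnit (Over.mk (Spec.map (CommRingCat.ofHom (algebraMap K (AlgebraicClosure K))))) ≫ y₀) =
      fst X _ ≫ lift (𝟙 X) (toUnit X ≫ y₀) := by
    apply CartesianMonoidalCategory.hom_ext <;> simp
  rw [this, Category.assoc, h, ← Category.assoc, ← Category.assoc]
  congr 1
  exact Subsingleton.elim _ _

end GrothLib.Rigidity
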