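import Groth.Agent.Lib.Rigidity.Smooth.General
import Groth.Agent.Lib.Rigidity.PointsExt
import Groth.Agent.Lib.SquareOpen.Connected
import Groth.Agent.Lib.Cube.AmpleCrit
import Mathlib

/-!
# Morphisms from a product of arbitrary pointed varieties to an abelian variety
-/

universe u

open CategoryTheory Limits AlgebraicGeometry MonoidalCategory CartesianMonoidalCategory MonObj TopologicalSpace
open scoped Obj

set_option backward.isDefEq.respectTransparency false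

noncomputable section

namespace GrothLib.Rigidity

variable {K : Type u} [Field K] [IsAlgClosed K] {X Y A : Over (Spec (CommRingCat.of K))}
  [LocallyOfFiniteType X.hom] [QuasiCompact X.hom] [IsIntegral X.left]
  [LocallyOfFiniteType Y.hom] [QuasiCompact Y.hom] [IsSeparated Y.hom] [IsIntegral Y.left]
  [GrpObj A] [IsProper A.hom]

theorem lift_point_eq (f : X ⊗ Y ⟶ A) (x₀ : 𝟙_ _ ⟶ X) (y₀ : 𝟙_ _ ⟶ Y) (x : 𝟙_ _ ⟶ X) (y : 𝟙_ _ ⟶ Y) :
    lift x y ≫ f = (lift x y₀ ≫ f) * (lift x₀ y₀ ≫ f)⁻¹ * (lift x₀ y ≫ f) := by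
  haveI : IsLocallyNoetherian Y.left := LocallyOfFiniteType.isLocallyNoetherian Y.hom
  haveI : CompactSpace Y.left := QuasiCompact.compactSpace_of_compactSpace Y.hom
  haveI : IsNoetherian Y.left := ⟨⟩
  haveI : LocallyOfFinitePresentation Y.hom := inferInstance
  let O : Y.left.Opens := Y.hom.smoothLocus
  have hO : (O : Set Y.left).Nonempty := Y.hom.dense_smoothLocus_of_perfectField.nonempty
  haveI : Smooth (O.ι ≫ Y.hom) := by
    rw [← Scheme.Hom.smoothLocus_eq_top_iff, ← Scheme.Hom.preimage_smoothLocus_eq, Scheme.Opens.ι_preimage_self]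
  let W : Over (Spec (CommRingCat.of K)) := Over.mk (O.ι ≫ Y.hom)
  let j : W ⟶ Y := Over.homMk O.ι rfl
  haveI : Nonempty O := hO.to_subtype
  haveI : Smooth W.hom := inferInstanceAs (Smooth (O.ι ≫ Y.hom))
  haveI : IsSeparated W.hom := inferInstanceAs (IsSeparated (O.ι ≫ Y.hom))
  haveI : IsIntegral W.left := inferInstanceAs (IsIntegral (O : Scheme.{u}))
  haveI : GeometricallyIntegral W.hom := Cube.geometricallyIntegral_of_isIntegral W.hom
  haveI : IsDominant j.left := Opens.isDominant_ι (O.2.dense hO)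
  obtain ⟨w₁, -⟩ := exists_point_mem (X := W) (S := Set.univ) isOpen_univ.isLocallyClosed Set.univ_nonempty
  let s : (𝟙_ (Over (Spec (CommRingCat.of K))) ⟶ X) → (Y ⟶ A) := fun a => lift (toUnit Y ≫ a) (𝟙 Y) ≫ f
  let G : (𝟙_ (Over (Spec (CommRingCat.of K))) ⟶ X) → (Y ⟶ A) :=
    fun a => (toUnit Y ≫ (w₁ ≫ j) ≫ s a)⁻¹ * s a
  have hG : GrothLib.Cube.ConstOnSmooth G := by
    intro V h1 h2 h3 h4 φ a b
    haveI := h1; haveI := h2; haveI := h4
    haveI : GeometricallyIntegral V.hom := Cube.geometricallyIntegral_of_isIntegral V.hom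
    obtain ⟨g₁, g₂, hg⟩ := exists_eq_mul ((φ ⊗ₘ j) ≫ f) a
    have hs : ∀ c : 𝟙_ _ ⟶ V, j ≫ s (c ≫ φ) = (toUnit W ≫ c ≫ g₁) * g₂ := fun c => by
      have := congrArg (fun t => lift (toUnit W ≫ c) (𝟙 W) ≫ t) hg
      simpa [s, comp_lift_assoc, MonObj.comp_mul] using this
    have hjG : ∀ c : 𝟙_ _ ⟶ V, j ≫ G (c ≫ φ) = (toUnit W ≫ w₁ ≫ g₂)⁻¹ * g₂ := fun c => by
      simp only [G, MonObj.comp_mul, GrpObj.comp_inv, hs, comp_toUnit_assoc, Category.assoc]
      rw [_root_.mul_inv_rev, _root_.mul_assoc, inv_mul_cancel_left]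
    refine Over.OverMorphism.ext (ext_of_isDominant_of_isSeparated A.hom ((Over.w _).trans (Over.w _).symm) j.left ?_)
    rw [← Over.comp_left, ← Over.comp_left, hjG, hjG]
  haveI : ConnectedSpace X.left := inferInstance
  have key := GrothLib.Cube.eq_of_connected hG x x₀
  have e : ∀ (a : 𝟙_ _ ⟶ X) (b : 𝟙_ _ ⟶ Y), b ≫ G a = (lift a (w₁ ≫ j) ≫ f)⁻¹ * (lift a b ≫ f) := fun a b => by
    simp only [G, s, MonObj.comp_mul, GrpObj.comp_inv, comp_lift_assoc, comp_toUnit_assoc, Category.comp_id]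
    congr 3 <;> simp [Subsingleton.elim (toUnit (𝟙_ (Over (Spec (CommRingCat.of K))))) (𝟙 _)]
  have h1 := e x y
  have h2 := e x y₀
  rw [key, e] at h1 h2
  have hy : lift x y ≫ f = (lift x (w₁ ≫ j) ≫ f) * ((lift x₀ (w₁ ≫ j) ≫ f)⁻¹ * (lift x₀ y ≫ f)) := by
    rw [h1]; group
  have hy₀ : lift x y₀ ≫ f = (lift x (w₁ ≫ j) ≫ f) * ((lift x₀ (w₁ ≫ j) ≫ f)⁻¹ * (lift x₀ y₀ ≫ f)) := by
    rw [h2]; group
  rw [hy, hy₀]
  group

/-- The decomposition, on arbitrary points. -/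
theorem lift_eq_of_isAlgClosed (f : X ⊗ Y ⟶ A) (x₀ : 𝟙_ _ ⟶ X) (y₀ : 𝟙_ _ ⟶ Y)
    {T : Over (Spec (CommRingCat.of K))} (a : T ⟶ X) (b : T ⟶ Y) :
    lift a b ≫ f = (lift a (toUnit T ≫ y₀) ≫ f) * (toUnit T ≫ lift x₀ y₀ ≫ f)⁻¹ *
      (lift (toUnit T ≫ x₀) b ≫ f) := by
  haveI : GeometricallyIntegral X.hom := Cube.geometricallyIntegral_of_isIntegral X.hom
  haveI : GeometricallyIntegral Y.hom := Cube.geometricallyIntegral_of_isIntegral Y.hom
  haveI : IsLocallyNoetherian X.left := LocallyOfFiniteType.isLocallyNoetherian X.hom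
  haveI : LocallyOfFiniteType (X ⊗ Y).hom := by dsimp; infer_instance
  haveI : IsIntegral (X ⊗ Y).left := inferInstanceAs (IsIntegral (pullback X.hom Y.hom))
  have main : f = (fst X Y ≫ lift (𝟙 X) (toUnit X ≫ y₀) ≫ f) * (toUnit _ ≫ lift x₀ y₀ ≫ f)⁻¹ *
      (snd X Y ≫ lift (toUnit Y ≫ x₀) (𝟙 Y) ≫ f) := by
    refine ext_of_points _ _ fun p => ?_
    have hp : lift (p ≫ fst X Y) (p ≫ snd X Y) = p := by ext <;> simp
    conv_lhs => rw [← hp, lift_point_eq f x₀ y₀]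
    simp only [MonObj.comp_mul, GrpObj.comp_inv, comp_lift_assoc, comp_toUnit_assoc, Category.comp_id]
    congr 3 <;> simp [Subsingleton.elim (toUnit (𝟙_ (Over (Spec (CommRingCat.of K))))) (𝟙 _)]
  conv_lhs => rw [main]
  simp only [MonObj.comp_mul, GrpObj.comp_inv, comp_lift_assoc, comp_toUnit_assoc, Category.comp_id, lift_fst, lift_snd]

end GrothLib.Rigidity

namespace GrothLib.Rigidity

variable {K : Type u} [Field K] {X Y A : Over (Spec (CommRingCat.of K))}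
  [LocallyOfFiniteType X.hom] [QuasiCompact X.hom] [GeometricallyIntegral X.hom]
  [LocallyOfFiniteType Y.hom] [QuasiCompact Y.hom] [IsSeparated Y.hom] [GeometricallyIntegral Y.hom]
  [GrpObj A] [IsProper A.hom]

theorem eq_mul_of_pointed (f : X ⊗ Y ⟶ A) (x₀ : 𝟙_ _ ⟶ X) (y₀ : 𝟙_ _ ⟶ Y) :
    f = (fst X Y ≫ lift (𝟙 X) (toUnit X ≫ y₀) ≫ f) * (toUnit _ ≫ lift x₀ y₀ ≫ f)⁻¹ *
      (snd X Y ≫ lift (toUnit Y ≫ x₀) (𝟙 Y) ≫ f) := by
  let L := AlgebraicClosure K
  let φ : Spec (CommRingCat.of L) ⟶ Spec (CommRingCat.of K) := Spec.map (CommRingCat.ofHom (algebraMap K L))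
  let F := Over.pullback φ
  haveI : LocallyOfFiniteType (F.obj X).hom := by dsimp [F]; infer_instance
  haveI : QuasiCompact (F.obj X).hom := by dsimp [F]; infer_instance
  haveI : GeometricallyIntegral (F.obj X).hom := by dsimp [F]; infer_instance
  haveI : LocallyOfFiniteType (F.obj Y).hom := by dsimp [F]; infer_instance
  haveI : QuasiCompact (F.obj Y).hom := by dsimp [F]; infer_instance
  haveI : IsSeparated (F.obj Y).hom := by dsimp [F]; infer_instance
  haveI : GeometricallyIntegral (F.obj Y).hom := by dsimp [F]; infer_instance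
  haveI : IsIntegral (F.obj X).left := GeometricallyIntegral.isIntegral_of_subsingleton (F.obj X).hom
  haveI : IsIntegral (F.obj Y).left := GeometricallyIntegral.isIntegral_of_subsingleton (F.obj Y).hom
  haveI : IsProper (F.obj A).hom := by dsimp [F]; infer_instance
  let f' : F.obj X ⊗ F.obj Y ⟶ F.obj A := Functor.LaxMonoidal.μ F X Y ≫ F.map f
  have hf' : ∀ {S : Over (Spec (CommRingCat.of K))} (c : S ⟶ X) (d : S ⟶ Y),
      F.map (lift c d ≫ f) = lift (F.map c) (F.map d) ≫ f' := fun c d => by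
    simp only [f', F.map_comp, Functor.Monoidal.lift_μ_assoc]
  have hpt : ∀ {S Z : Over (Spec (CommRingCat.of K))} (p : 𝟙_ _ ⟶ Z),
      F.map (toUnit S ≫ p) = toUnit (F.obj S) ≫ Functor.LaxMonoidal.ε F ≫ F.map p := fun p => by
    rw [F.map_comp, ← Functor.Monoidal.toUnit_ε, Category.assoc]
  have key := lift_eq_of_isAlgClosed f' (Functor.LaxMonoidal.ε F ≫ F.map x₀) (Functor.LaxMonoidal.ε F ≫ F.map y₀)
    (F.map (fst X Y)) (F.map (snd X Y))
  apply F.map_injective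
  have e0 : lift (fst X Y) (snd X Y) = 𝟙 _ := by ext <;> simp
  have e1 : fst X Y ≫ lift (𝟙 X) (toUnit X ≫ y₀) = lift (fst X Y) (toUnit _ ≫ y₀) := by ext <;> simp
  have e2 : snd X Y ≫ lift (toUnit Y ≫ x₀) (𝟙 Y) = lift (toUnit _ ≫ x₀) (snd X Y) := by ext <;> simp
  have e3 : toUnit (X ⊗ Y) ≫ lift x₀ y₀ = lift (toUnit _ ≫ x₀) (toUnit _ ≫ y₀) := by ext <;> simp
  conv_lhs => rw [← Category.id_comp f, ← e0, hf', key]
  simp only [Functor.map_mul, Functor.map_inv', reassoc_of% e1, reassoc_of% e2, reassoc_of% e3, hf', hpt]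
  congr 3
  simp [comp_lift_assoc]

end GrothLib.Rigidity
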