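import Groth.Agent.S8709
import Groth.Agent.S7982
import Groth.Agent.Lib.Rigidity.ProductGeneral
import Groth.Agent.Lib.Rigidity.SmoothGroup
import Groth.Agent.Lib.Rigidity.AbImage
import Groth.Agent.Lib.DiagGrp.CharHom
import Groth.Agent.Lib.GrpSchField.Criteria
import Mathlib

/-!
# Rigidity of maps from products to tori; commutativity of semi-abelian varieties
-/

universe u

open CategoryTheory Limits AlgebraicGeometry MonoidalCategory CartesianMonoidalCategory MonObj TopologicalSpace
open scoped Obj TensorProduct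

set_option backward.isDefEq.respectTransparency false

noncomputable section

namespace GrothLib.Rigidity

open GrothLib.DiagGrp

theorem geometricallyConnected_of_geometricallyIntegral {X S : Scheme.{u}} (f : X ⟶ S) [GeometricallyIntegral f] :
    GeometricallyConnected f :=
  ⟨fun K _ y Z fst snd h => by
    haveI : IsIntegral Z := GeometricallyIntegral.geometrically_isIntegral y fst snd h
    show ConnectedSpace Z
    infer_instance⟩

/-- Maps from a product to a diagonalisable group which are trivial on both axes are trivial. -/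
theorem diag_rigid {k : Type u} [Field k] {X Y : Over (Spec (CommRingCat.of k))}
    [LocallyOfFiniteType X.hom] [QuasiCompact X.hom] [GeometricallyIntegral X.hom]
    [LocallyOfFiniteType Y.hom] [QuasiCompact Y.hom] [GeometricallyIntegral Y.hom]
    (M : Type) [AddCommGroup M] (u : X ⊗ Y ⟶ Red.DS (Spec (CommRingCat.of k)) M)
    (eX : 𝟙_ _ ⟶ X) (eY : 𝟙_ _ ⟶ Y)
    (huX : lift (𝟙 X) (toUnit X ≫ eY) ≫ u = 1) (huY : lift (toUnit Y ≫ eX) (𝟙 Y) ≫ u = 1) : u = 1 := by
  haveI := geometricallyConnected_of_geometricallyIntegral X.hom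
  haveI := geometricallyConnected_of_geometricallyIntegral Y.hom
  have hchar : ∀ m : M, u ≫ Red.DSmap _ (zmultiplesHom M m : ℤ →+ M) = 1 := fun m => by
    refine Groth.Agent.S8709.result k X Y eX eY _ ?_ ?_
    · rw [← Category.assoc, huX, MonObj.one_comp]
    · rw [← Category.assoc, huY, MonObj.one_comp]
  apply Over.OverMorphism.ext
  refine Scheme.hom_ext_of_forall _ _ fun P => ?_
  obtain ⟨V, hV, hPV, -⟩ := exists_isAffineOpen_mem_and_subset (TopologicalSpace.Opens.mem_top P)
  refine ⟨V, hPV, ?_⟩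
  let p := hV.fromSpec ≫ (X ⊗ Y).hom
  let j : Over.mk p ⟶ X ⊗ Y := Over.homMk hV.fromSpec rfl
  obtain ⟨χ, hχ⟩ := (dsPoint M p).surjective (j ≫ u)
  have h1 : χ = 1 := by
    refine MonoidHom.ext fun m => ?_
    have h := congrArg (j ≫ ·) (hchar m.toAdd)
    simp only [MonObj.comp_one, ← Category.assoc, ← hχ, dsPoint_DSmap] at h
    rw [← map_one (dsPoint ℤ p)] at h
    have h2 := DFunLike.congr_fun ((dsPoint ℤ p).injective h) (Multiplicative.ofAdd 1)
    simp at h2
    exact h2.trans rfl
  rw [h1, map_one] at hχ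
  have h2 : hV.fromSpec ≫ u.left = hV.fromSpec ≫ (1 : X ⊗ Y ⟶ Red.DS (Spec (CommRingCat.of k)) M).left :=
    congrArg CommaMorphism.left (hχ.symm.trans (MonObj.comp_one j).symm)
  rw [← IsAffineOpen.isoSpec_hom_fromSpec hV, Category.assoc, Category.assoc, h2]

/-- A torus over a field splits over an algebraically closed extension. -/
theorem exists_split {k : Type u} [Field k] {T : Over (Spec (CommRingCat.of k))} [GrpObj T] (hT : Red.IsTorus T) :
    ∃ (L : Type u) (_ : Field L) (_ : IsAlgClosed L) (_ : Algebra k L) (r : ℕ),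
      Nonempty (Grp.mk (Red.bc (Spec.map (CommRingCat.ofHom (algebraMap k L))) T) ≅
        Grp.mk (Red.DS (Spec (CommRingCat.of L)) (Fin r → ℤ))) := by
  obtain ⟨S', f, hfl, hfs, -, hloc⟩ := hT
  obtain ⟨s', -⟩ := hfs.1 (IsLocalRing.closedPoint k)
  obtain ⟨U, hU, r, ⟨e⟩⟩ := hloc s'
  let L := AlgebraicClosure ((U : Scheme.{u}).residueField ⟨s', hU⟩)
  let y : Spec (CommRingCat.of L) ⟶ (U : Scheme.{u}) :=
    Spec.map (CommRingCat.ofHom (algebraMap ((U : Scheme.{u}).residueField ⟨s', hU⟩) L)) ≫
      (U : Scheme.{u}).fromSpecResidueField ⟨s', hU⟩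
  let φ := Spec.preimage (y ≫ U.ι ≫ f)
  letI : Algebra k L := φ.hom.toAlgebra
  have hg : Spec.map (CommRingCat.ofHom (algebraMap k L)) = y ≫ U.ι ≫ f := Spec.map_preimage _
  have hterm : y ≫ Limits.IsTerminal.from specULiftZIsTerminal (U : Scheme.{u}) =
      Limits.IsTerminal.from specULiftZIsTerminal _ := specULiftZIsTerminal.hom_ext _ _
  exact ⟨L, inferInstance, inferInstance, inferInstance, r,
    ⟨(bcGrpComp T (U.ι ≫ f) y _ hg).trans (((Over.pullback y).mapGrp.mapIso e).trans
    (bcGrpComp (Red.diag (ULift.{u} ℤ) (Fin r → ℤ)) (Limits.IsTerminal.from specULiftZIsTerminal _) y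
      (Limits.IsTerminal.from specULiftZIsTerminal _) hterm.symm).symm)⟩⟩

theorem isDomain_tensor_monoidAlgebra (R L : Type u) [CommRing R] [Field L] [Algebra R L] (r : ℕ) :
    IsDomain (MonoidAlgebra R (Multiplicative (Fin r → ℤ)) ⊗[R] L) := by
  have e := ((Algebra.TensorProduct.comm R (MonoidAlgebra R (Multiplicative (Fin r → ℤ))) L).toRingEquiv.trans
    (MonoidAlgebra.scalarTensorEquiv R L (M := Multiplicative (Fin r → ℤ))).toRingEquiv)
  exact e.toMulEquiv.isDomain _

/-- A split torus over a field is integral. -/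
theorem isIntegral_DS (L : Type u) [Field L] (r : ℕ) :
    IsIntegral (Red.DS (Spec (CommRingCat.of L)) (Fin r → ℤ)).left := by
  let R := ULift.{u} ℤ
  letI : Algebra R L := ((Int.castRingHom L).comp (ULift.ringEquiv (R := ℤ)).toRingHom).toAlgebra
  have hterm : Limits.IsTerminal.from specULiftZIsTerminal (Spec (CommRingCat.of L)) =
      Spec.map (CommRingCat.ofHom (algebraMap R L)) := specULiftZIsTerminal.hom_ext _ _
  haveI := isDomain_tensor_monoidAlgebra R L r
  haveI : IsIntegral (pullback (Spec.map (CommRingCat.ofHom (algebraMap R (MonoidAlgebra R (Multiplicative (Fin r → ℤ)))))) (Spec.map (CommRingCat.ofHom (algebraMap R L)))) :=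
    .of_isIso (pullbackSpecIso R (MonoidAlgebra R (Multiplicative (Fin r → ℤ))) L).inv
  show IsIntegral (pullback (Spec.map (CommRingCat.ofHom (algebraMap R (MonoidAlgebra R (Multiplicative (Fin r → ℤ)))))) _)
  rw [hterm]
  infer_instance

/-- A torus of finite type over a field is smooth and connected. -/
theorem smooth_connected_of_isTorus {k : Type u} [Field k] (T : Over (Spec (CommRingCat.of k))) [GrpObj T]
    [LocallyOfFiniteType T.hom] (hT : Red.IsTorus T) : Smooth T.hom ∧ ConnectedSpace T.left := by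
  obtain ⟨L, _, _, _, r, ⟨e⟩⟩ := exists_split hT
  let φ : Spec (CommRingCat.of L) ⟶ Spec (CommRingCat.of k) := Spec.map (CommRingCat.ofHom (algebraMap k L))
  let TL := Red.bc φ T
  let i : TL ≅ Red.DS (Spec (CommRingCat.of L)) (Fin r → ℤ) := (Grp.forget _).mapIso e
  haveI := isIntegral_DS L r
  haveI : IsIso i.inv.left := inferInstanceAs (IsIso ((Over.forget _).map i.inv))
  haveI : IsIntegral TL.left := .of_isIso i.inv.left
  haveI : LocallyOfFiniteType TL.hom := inferInstanceAs (LocallyOfFiniteType (pullback.snd T.hom φ))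
  haveI : Smooth TL.hom := GrpSchField.smooth_of_perfectField_of_isReduced TL
  haveI : Surjective φ := ⟨fun z => ⟨IsLocalRing.closedPoint L, Subsingleton.elim (α := PrimeSpectrum k) _ _⟩⟩
  haveI : Flat φ := inferInstance
  haveI : QuasiCompact φ := inferInstance
  refine ⟨MorphismProperty.of_pullback_snd_of_descendsAlong (P := @Smooth) (Q := EtSite.fpqcCov)
      (show EtSite.fpqcCov φ from ⟨⟨inferInstance, inferInstance⟩, inferInstance⟩) ‹Smooth TL.hom›, ?_⟩
  haveI : Surjective (pullback.fst T.hom φ) := inferInstance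
  haveI : IrreducibleSpace TL.left := inferInstance
  haveI : ConnectedSpace ↥(pullback T.hom φ) := (inferInstance : ConnectedSpace TL.left)
  exact (pullback.fst T.hom φ).surjective.connectedSpace (pullback.fst T.hom φ).continuous

/-- Maps from a product to a torus which are trivial on both axes are trivial. -/
theorem torus_rigid {k : Type u} [Field k] {X Y T : Over (Spec (CommRingCat.of k))}
    [LocallyOfFiniteType X.hom] [QuasiCompact X.hom] [GeometricallyIntegral X.hom]
    [LocallyOfFiniteType Y.hom] [QuasiCompact Y.hom] [GeometricallyIntegral Y.hom]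
    [GrpObj T] (hT : Red.IsTorus T) (u : X ⊗ Y ⟶ T) (eX : 𝟙_ _ ⟶ X) (eY : 𝟙_ _ ⟶ Y)
    (huX : lift (𝟙 X) (toUnit X ≫ eY) ≫ u = 1) (huY : lift (toUnit Y ≫ eX) (𝟙 Y) ≫ u = 1) : u = 1 := by
  obtain ⟨L, _, _, _, r, ⟨e⟩⟩ := exists_split hT
  let φ : Spec (CommRingCat.of L) ⟶ Spec (CommRingCat.of k) := Spec.map (CommRingCat.ofHom (algebraMap k L))
  let F := Over.pullback φ
  haveI : LocallyOfFiniteType (F.obj X).hom := by dsimp [F]; infer_instance
  haveI : QuasiCompact (F.obj X).hom := by dsimp [F]; infer_instance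
  haveI : GeometricallyIntegral (F.obj X).hom := by dsimp [F]; infer_instance
  haveI : LocallyOfFiniteType (F.obj Y).hom := by dsimp [F]; infer_instance
  haveI : QuasiCompact (F.obj Y).hom := by dsimp [F]; infer_instance
  haveI : GeometricallyIntegral (F.obj Y).hom := by dsimp [F]; infer_instance
  let v : F.obj T ⟶ Red.DS (Spec (CommRingCat.of L)) (Fin r → ℤ) := e.hom.hom.hom
  haveI : IsMonHom v := e.hom.hom.isMonHom_hom
  have hv : v ≫ e.inv.hom.hom = 𝟙 _ := congrArg (fun m => m.hom.hom) e.hom_inv_id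
  let u' := Functor.LaxMonoidal.μ F X Y ≫ F.map u ≫ v
  have hu' : ∀ {S : Over (Spec (CommRingCat.of k))} (c : S ⟶ X) (d : S ⟶ Y),
      F.map (lift c d ≫ u) ≫ v = lift (F.map c) (F.map d) ≫ u' := fun c d => by
    simp only [u', F.map_comp, Functor.Monoidal.lift_μ_assoc, Category.assoc]
  have hpt : ∀ {S Z : Over (Spec (CommRingCat.of k))} (p : 𝟙_ _ ⟶ Z),
      F.map (toUnit S ≫ p) = toUnit (F.obj S) ≫ Functor.LaxMonoidal.ε F ≫ F.map p := fun p => by
    rw [F.map_comp, ← Functor.Monoidal.toUnit_ε, Category.assoc]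
  have key : u' = 1 := by
    refine diag_rigid _ u' (Functor.LaxMonoidal.ε F ≫ F.map eX) (Functor.LaxMonoidal.ε F ≫ F.map eY) ?_ ?_
    · have := hu' (𝟙 X) (toUnit X ≫ eY)
      rw [huX, Functor.map_one, MonObj.one_comp, F.map_id, hpt] at this
      exact this.symm
    · have := hu' (toUnit Y ≫ eX) (𝟙 Y)
      rw [huY, Functor.map_one, MonObj.one_comp, F.map_id, hpt] at this
      exact this.symm
  haveI : Surjective φ := ⟨fun z => ⟨IsLocalRing.closedPoint L, Subsingleton.elim (α := PrimeSpectrum k) _ _⟩⟩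
  apply F.map_injective
  have h1 := hu' (fst X Y) (snd X Y)
  rw [key, MonObj.comp_one, show lift (fst X Y) (snd X Y) = 𝟙 _ by ext <;> simp, Category.id_comp] at h1
  have h2 := congrArg (· ≫ e.inv.hom.hom) h1
  simp only [Category.assoc, hv, Category.comp_id] at h2
  haveI : IsMonHom e.inv.hom.hom := e.inv.hom.isMonHom_hom
  rw [h2, MonObj.one_comp, Functor.map_one]

variable {k : Type u} [Field k] {T G A : Over (Spec (CommRingCat.of k))}
  [GrpObj T] [GrpObj G] [GrpObj A] [LocallyOfFiniteType G.hom] [QuasiCompact G.hom]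
  [IsProper A.hom] [Smooth A.hom] [ConnectedSpace A.left]
  (i : T ⟶ G) (q : G ⟶ A) [IsMonHom i] [IsClosedImmersion i.left] [IsMonHom q] [Surjective q.left] [Flat q.left]

/-- An extension of an abelian variety by a torus is smooth, connected and geometrically integral. -/
theorem geometricallyIntegral_of_extension (hT : Red.IsTorus T) (hker : AlgGrp.IsKernel i q) :
    GeometricallyIntegral G.hom := by
  haveI : LocallyOfFiniteType T.hom := by rw [← Over.w i]; infer_instance
  haveI : QuasiCompact T.hom := by rw [← Over.w i]; infer_instance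
  obtain ⟨h1, h2⟩ := smooth_connected_of_isTorus T hT
  obtain ⟨-, hs, hc⟩ := Groth.Agent.S7982.result k T G A i q hker
  haveI := hs h1 inferInstance
  haveI := hc h2 inferInstance
  haveI : GeometricallyReduced G.hom := geometricallyReduced_of_smooth G.hom
  exact geometricallyIntegral_of_connected G

omit [Smooth A.hom] [ConnectedSpace A.left] [IsProper A.hom] [LocallyOfFiniteType G.hom] [QuasiCompact G.hom]
  [IsMonHom q] [Surjective q.left] [Flat q.left] [IsClosedImmersion i.left] in
/-- A map to the middle of an extension by a torus, trivial in the quotient and on both axes, is trivial. -/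
theorem eq_one_of_extension {X Y : Over (Spec (CommRingCat.of k))}
    [LocallyOfFiniteType X.hom] [QuasiCompact X.hom] [GeometricallyIntegral X.hom]
    [LocallyOfFiniteType Y.hom] [QuasiCompact Y.hom] [GeometricallyIntegral Y.hom]
    [Mono i] (hT : Red.IsTorus T) (hker : AlgGrp.IsKernel i q) (d : X ⊗ Y ⟶ G) (hd : d ≫ q = 1)
    (eX : 𝟙_ _ ⟶ X) (eY : 𝟙_ _ ⟶ Y)
    (hX : lift (𝟙 X) (toUnit X ≫ eY) ≫ d = 1) (hY : lift (toUnit Y ≫ eX) (𝟙 Y) ≫ d = 1) : d = 1 := by
  let d' : X ⊗ Y ⟶ T := hker.lift d (toUnit _) (by rw [hd, Hom.one_def])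
  have hd' : d' ≫ i = d := hker.lift_fst _ _ _
  have h : d' = 1 := torus_rigid hT d' eX eY
    (by rw [← cancel_mono i, Category.assoc, hd', hX, MonObj.one_comp])
    (by rw [← cancel_mono i, Category.assoc, hd', hY, MonObj.one_comp])
  rw [← hd', h, MonObj.one_comp]

/-- An extension of an abelian variety by a torus is commutative. -/
theorem comm_of_extension (hT : Red.IsTorus T) (hker : AlgGrp.IsKernel i q) {Z : Over (Spec (CommRingCat.of k))}
    (a b : Z ⟶ G) : a * b = b * a := by
  haveI := geometricallyIntegral_of_extension i q hT hker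
  haveI : GeometricallyReduced A.hom := geometricallyReduced_of_smooth A.hom
  haveI : GeometricallyIntegral A.hom := geometricallyIntegral_of_connected A
  haveI : IsCommMonObj A := isCommMonObj_of_isProper_of_geometricallyIntegral A
  haveI : Mono i.left := inferInstance
  haveI : Mono i := Over.mono_of_mono_left _
  let d : G ⊗ G ⟶ G := fst G G * snd G G * (fst G G)⁻¹ * (snd G G)⁻¹
  have hd : d = 1 := by
    refine eq_one_of_extension i q hT hker d ?_ η[G] η[G] ?_ ?_
    · simp only [d, MonObj.mul_comp, GrpObj.inv_comp]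
      rw [mul_comm (fst G G ≫ q) (snd G G ≫ q), mul_inv_cancel_right, mul_inv_cancel]
    · simp [d, MonObj.comp_mul, GrpObj.comp_inv, ← Hom.one_def]
    · simp [d, MonObj.comp_mul, GrpObj.comp_inv, ← Hom.one_def]
  have h := congrArg (lift a b ≫ ·) hd
  simp only [d, MonObj.comp_mul, GrpObj.comp_inv, lift_fst, lift_snd, MonObj.comp_one] at h
  rwa [mul_inv_eq_one, mul_inv_eq_iff_eq_mul] at h

end GrothLib.Rigidity
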