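import Groth.Agent.Lib.Rigidity.AbImage
import Groth.Agent.Lib.Dim.QuasiFinite
import Mathlib.AlgebraicGeometry.Group.Smooth
import Mathlib.CategoryTheory.Monoidal.Cartesian.Grp

/-!
# Maximal abelian subgroup schemes
-/

universe u

open CategoryTheory Limits AlgebraicGeometry TopologicalSpace
open MonoidalCategory CartesianMonoidalCategory MonObj

namespace GrothLib.Rigidity

variable {K : Type u} [Field K] (G : Over (Spec (CommRingCat.of K)))

/-- The underlying set of an abelian subgroup scheme of `G`. -/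
def IsAbSub [GrpObj G] (s : Set G.left) : Prop :=
  ∃ (M : Over (Spec (CommRingCat.of K))) (_ : GrpObj M) (i : M ⟶ G), IsMonHom i ∧
    IsClosedImmersion i.left ∧ IsProper M.hom ∧ GeometricallyIntegral M.hom ∧ Set.range i.left = s

theorem exists_maximal_abelian [GrpObj G] [IsCommMonObj G] [LocallyOfFiniteType G.hom] :
    ∃ (M : Over (Spec (CommRingCat.of K))) (_ : GrpObj M) (i : M ⟶ G), IsMonHom i ∧ IsClosedImmersion i.left ∧
      IsProper M.hom ∧ GeometricallyIntegral M.hom ∧
      ∀ (A : Over (Spec (CommRingCat.of K))) [GrpObj A] [IsProper A.hom] [GeometricallyReduced A.hom] [ConnectedSpace ↥A.left]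
        (φ : A ⟶ G), IsMonHom φ → ∃ ψ : A ⟶ M, ψ ≫ i = φ := by
  classical
  let S := Spec (CommRingCat.of K)
  let e : S := IsLocalRing.closedPoint K
  obtain ⟨_, ⟨U, hU, rfl⟩, heU, -⟩ := G.left.isBasis_affineOpens.exists_subset_of_mem_open
    (a := η[G].left e) (Set.mem_univ _) isOpen_univ
  -- a bound on dimensions
  have : CompactSpace (U : Scheme.{u}) := isCompact_iff_compactSpace.mp hU.isCompact
  obtain ⟨N, hN⟩ : ∃ N : ℕ, topologicalKrullDim (U : Scheme.{u}) ≤ N := by
    obtain ⟨ψ, hψ, -⟩ := GrothLib.Dim.exists_finiteType_specMap G.hom hU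
    algebraize [ψ.hom]
    have : Algebra.FiniteType K Γ(G.left, U) := hψ
    obtain ⟨n, f, hf⟩ := Algebra.FiniteType.iff_quotient_mvPolynomial''.mp this
    refine ⟨n, (GrothLib.Dim.topologicalKrullDim_affineOpen hU).le.trans ?_⟩
    refine (ringKrullDim_le_of_surjective f.toRingHom hf).trans (le_of_eq ?_)
    rw [MvPolynomial.ringKrullDim_of_isNoetherianRing, ringKrullDim_eq_zero_of_field]
    simp
  have hbound : ∀ s, IsAbSub G s → topologicalKrullDim s ≤ N ∧ IsClosed s ∧ IsIrreducible s := by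
    rintro s ⟨M, _, i, _, hic, _, _, rfl⟩
    have : IsIntegral M.left := GeometricallyIntegral.isIntegral_of_subsingleton M.hom
    have hd : topologicalKrullDim M.left = topologicalKrullDim (Set.range i.left) :=
      GrothLib.Dim.IsEmbedding.topologicalKrullDim_eq i.left.isClosedEmbedding.isEmbedding rfl
    obtain ⟨n, hn, hnU⟩ := GrothLib.Dim.exists_nat_dim_open (K := K) M.hom
    let V : M.left.Opens := i.left ⁻¹ᵁ U
    have hV : Nonempty V := ⟨⟨η[M].left e, by
      show i.left (η[M].left e) ∈ U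
      rw [← Scheme.Hom.comp_apply, ← Over.comp_left, IsMonHom.one_hom]
      exact heU⟩⟩
    refine ⟨?_, i.left.isClosedEmbedding.isClosed_range, ?_⟩
    · rw [← hd, hn, ← hnU V hV]
      refine le_trans ?_ hN
      exact ((i.left.isClosedEmbedding.restrictPreimage (U : Set G.left))).isInducing.topologicalKrullDim_le
    · rw [← Set.image_univ]
      exact (IrreducibleSpace.isIrreducible_univ _).image _ i.left.continuous.continuousOn
  -- the trivial subgroup
  have h0 : ∃ s, IsAbSub G s := by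
    have : IsProper (𝟙_ (Over S)).hom := inferInstanceAs (IsProper (𝟙 S))
    have : GeometricallyIntegral (𝟙_ (Over S)).hom := by
      refine ⟨fun L _ y Z fst snd h => ?_⟩
      have : IsIso snd := MorphismProperty.of_isPullback (P := MorphismProperty.isomorphisms Scheme)
        h (inferInstanceAs (IsIso (𝟙 S)))
      have : Nonempty Z := ⟨(asIso snd).inv (IsLocalRing.closedPoint L)⟩
      exact isIntegral_of_isOpenImmersion snd
    obtain ⟨M, g, i, h₁, h₂, h₃, h₄, h₅, -⟩ := exists_image η[G]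
    exact ⟨_, M, g, i, h₁, h₂, h₃, h₄, h₅⟩
  let P : ℕ → Prop := fun n => ∃ s, IsAbSub G s ∧ topologicalKrullDim s = n
  have hPd : ∀ s, IsAbSub G s → ∃ n, P n ∧ n ≤ N ∧ topologicalKrullDim s = n := fun s hs => by
    obtain ⟨M, g, i, h₁, h₂, h₃, h₄, rfl⟩ := hs
    have : IsIntegral M.left := GeometricallyIntegral.isIntegral_of_subsingleton M.hom
    obtain ⟨n, hn, -⟩ := GrothLib.Dim.exists_nat_dim_open (K := K) M.hom
    have hd : topologicalKrullDim (Set.range i.left) = n := by
      rw [← hn]; exact (GrothLib.Dim.IsEmbedding.topologicalKrullDim_eq i.left.isClosedEmbedding.isEmbedding rfl).symm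
    refine ⟨n, ⟨_, ⟨M, g, i, h₁, h₂, h₃, h₄, rfl⟩, hd⟩, ?_, hd⟩
    have := (hbound _ ⟨M, g, i, h₁, h₂, h₃, h₄, rfl⟩).1
    rw [hd] at this
    exact_mod_cast this
  obtain ⟨n₀, hn₀, hn₀N, -⟩ := hPd _ h0.choose_spec
  obtain ⟨s, hs, hsd⟩ : P (Nat.findGreatest P N) := Nat.findGreatest_spec hn₀N hn₀
  obtain ⟨M, gM, i, hi, hic, hMp, hMi, rfl⟩ := hs
  refine ⟨M, gM, i, hi, hic, hMp, hMi, fun A _ _ _ _ φ hφ => ?_⟩
  have : GeometricallyIntegral A.hom := geometricallyIntegral_of_connected A
  have : IsIntegral A.left := GeometricallyIntegral.isIntegral_of_subsingleton A.hom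
  have : IsIntegral M.left := GeometricallyIntegral.isIntegral_of_subsingleton M.hom
  have : IsLocallyNoetherian A.left := LocallyOfFiniteType.isLocallyNoetherian A.hom
  have : IsProper (M ⊗ A).hom := by dsimp; infer_instance
  have : GeometricallyIntegral (M ⊗ A).hom := by
    refine ⟨fun L _ y Z fst snd h => ?_⟩
    have : IsIntegral (pullback (pullback.snd y M.hom) (pullback.fst M.hom A.hom)) := by
      have : IsIntegral (Spec (CommRingCat.of L)) := inferInstance
      have : IsIntegral (pullback y M.hom) := inferInstance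
      have : IsLocallyNoetherian (pullback y M.hom) :=
        LocallyOfFiniteType.isLocallyNoetherian (pullback.fst y M.hom)
      infer_instance
    let I := pullbackLeftPullbackSndIso y M.hom (pullback.fst M.hom A.hom) ≪≫
      h.flip.isoPullback.symm
    haveI : Nonempty Z := ⟨I.hom (Classical.arbitrary _)⟩
    exact isIntegral_of_isOpenImmersion I.inv
  let Φ : M ⊗ A ⟶ G := (fst M A ≫ i) * (snd M A ≫ φ)
  have : IsMonHom Φ := inferInstanceAs (IsMonHom (lift (fst M A ≫ i) (snd M A ≫ φ) ≫ μ[G]))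
  obtain ⟨M', g', j, hj, hjc, hM'p, hM'i, hjr, -⟩ := exists_image Φ
  have hsub : Set.range i.left ⊆ Set.range j.left := by
    have h : lift (𝟙 M) (1 : M ⟶ A) ≫ Φ = i := by simp [Φ, MonObj.comp_mul]
    rw [hjr]
    rintro _ ⟨m, rfl⟩
    exact ⟨(lift (𝟙 M) (1 : M ⟶ A)).left m, by rw [← Scheme.Hom.comp_apply, ← Over.comp_left, h]⟩
  have hφsub : Set.range φ.left ⊆ Set.range j.left := by
    have h : lift (1 : A ⟶ M) (𝟙 A) ≫ Φ = φ := by simp [Φ, MonObj.comp_mul]
    rw [hjr]
    rintro _ ⟨a, rfl⟩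
    exact ⟨(lift (1 : A ⟶ M) (𝟙 A)).left a, by rw [← Scheme.Hom.comp_apply, ← Over.comp_left, h]⟩
  obtain ⟨n, hn, hnN, hnd⟩ := hPd _ ⟨M', g', j, hj, hjc, hM'p, hM'i, rfl⟩
  have hle : n ≤ Nat.findGreatest P N := Nat.le_findGreatest hnN hn
  -- the inclusion `range i ⊆ range j` is an equality
  have heq : Set.range i.left = Set.range j.left := by
    have : IsIntegral M'.left := GeometricallyIntegral.isIntegral_of_subsingleton M'.hom
    have hcl : IsClosed (j.left ⁻¹' Set.range i.left) :=
      i.left.isClosedEmbedding.isClosed_range.preimage j.left.continuous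
    obtain ⟨k, hk, -⟩ := GrothLib.Dim.exists_nat_dim_open (K := K) M'.hom
    have hkn : k = n := by
      have := (GrothLib.Dim.IsEmbedding.topologicalKrullDim_eq j.left.isClosedEmbedding.isEmbedding rfl).symm.trans hk
      rw [hnd] at this
      exact_mod_cast this.symm
    have huniv : j.left ⁻¹' Set.range i.left = Set.univ := by
      have e : (j.left ⁻¹' Set.range i.left : Set M'.left) ≃ₜ Set.range i.left :=
        ((j.left.isClosedEmbedding.restrictPreimage _).isEmbedding.toHomeomorphOfSurjective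
          (fun ⟨x, hx⟩ => by obtain ⟨y, hy⟩ := hsub hx; exact ⟨⟨y, show j.left y ∈ _ by rw [hy]; exact hx⟩, Subtype.ext hy⟩))
      have hZd : topologicalKrullDim ↥(j.left ⁻¹' Set.range i.left) = (Nat.findGreatest P N : ℕ) := by
        rw [IsHomeomorph.topologicalKrullDim_eq _ e.isHomeomorph, hsd]
      refine GrothLib.Dim.eq_univ_of_dim_le hcl ?_ hZd
      rw [hk, hkn, hZd]
      exact_mod_cast hle
    refine hsub.antisymm ?_
    rintro _ ⟨y, rfl⟩
    exact (huniv.symm ▸ Set.mem_univ y : y ∈ j.left ⁻¹' Set.range i.left)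
  obtain ⟨ψ, hψ⟩ := RedSub.exists_lift φ.left i.left (hφsub.trans heq.ge)
  exact ⟨Over.homMk ψ (by rw [← Over.w i, reassoc_of% hψ, Over.w]), Over.OverMorphism.ext hψ⟩

end GrothLib.Rigidity
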